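import Groth.Prelude.Def_HopfRep
import Groth.Prelude.Def_ComodSub
import Groth.Agent.H40.Diag
import Mathlib

/-!
# Diagonalizable iff every finite-dimensional comodule is spanned by eigenvectors (helper16)
-/

set_option autoImplicit false
universe u v w

namespace Groth.Agent.Lib.Helper16

namespace DiagEigen

open TensorProduct Groth.Agent.H40

attribute [local instance] Classical.propDecidable

variable {k : Type u} [Field k] {A : Type v} [AddCommGroup A] [Module k A] [Coalgebra k A]

/-- the basis of group-like elements, when they span -/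
noncomputable def glBasis (hspan : Submodule.span k {a : A | IsGroupLikeElem k a} = ⊤) :
    Module.Basis {a : A | IsGroupLikeElem k a} k A :=
  Module.Basis.mk (v := fun g : {a : A | IsGroupLikeElem k a} => (g : A))
    (by
      have := linearIndepOn_isGroupLikeElem (R := k) (A := A)
      exact this)
    (by
      rw [Subtype.range_coe_subtype]
      exact hspan.ge)

lemma glBasis_apply (hspan : Submodule.span k {a : A | IsGroupLikeElem k a} = ⊤)
    (g : {a : A | IsGroupLikeElem k a}) : glBasis hspan g = (g : A) := by
  exact Module.Basis.mk_apply _ _ g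

lemma coord_apply (hspan : Submodule.span k {a : A | IsGroupLikeElem k a} = ⊤)
    (g h : {a : A | IsGroupLikeElem k a}) :
    (glBasis hspan).coord g (h : A) = if h = g then 1 else 0 := by
  rw [← glBasis_apply hspan h, Module.Basis.coord_apply, Module.Basis.repr_self,
    Finsupp.single_apply]

lemma convFun_coord (hspan : Submodule.span k {a : A | IsGroupLikeElem k a} = ⊤)
    (g h : {a : A | IsGroupLikeElem k a}) :
    convFun ((glBasis hspan).coord h) ((glBasis hspan).coord g) =
      if h = g then (glBasis hspan).coord g else 0 := by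
  apply (glBasis hspan).ext
  intro g'
  rw [glBasis_apply]
  have hg' : Coalgebra.comul (R := k) (g' : A) = (g' : A) ⊗ₜ[k] (g' : A) :=
    g'.2.comul_eq_tmul_self
  have e1 : convFun ((glBasis hspan).coord h) ((glBasis hspan).coord g) (g' : A) =
      (glBasis hspan).coord h (g' : A) * (glBasis hspan).coord g (g' : A) := by
    unfold convFun
    simp only [LinearMap.comp_apply, hg', TensorProduct.map_tmul, LinearMap.mul'_apply]
  rw [e1, coord_apply, coord_apply]
  by_cases hhg : h = g
  · subst hhg
    rw [if_pos rfl, coord_apply]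
    split_ifs <;> simp
  · rw [if_neg hhg, LinearMap.zero_apply]
    by_cases h1 : g' = h
    · subst h1
      simp [hhg]
    · simp [h1]

variable {V : Type w} [AddCommGroup V] [Module k V] [HopfRep.Comod k A V]

lemma coact_coactSlice_coord (hspan : Submodule.span k {a : A | IsGroupLikeElem k a} = ⊤)
    (g : {a : A | IsGroupLikeElem k a}) (v : V) :
    HopfRep.Comod.coact (k := k) (A := A) (coactSlice (C := A) ((glBasis hspan).coord g) v) =
      coactSlice (C := A) ((glBasis hspan).coord g) v ⊗ₜ[k] (g : A) := by
  rw [← sub_eq_zero]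
  apply tensor_eq_zero_of_lTensor_eq_zero (Set.range fun h => (glBasis hspan).coord h)
  · intro a ha
    apply (glBasis hspan).repr.injective
    ext h
    have := ha _ ⟨h, rfl⟩
    simpa using this
  · rintro _ ⟨h, rfl⟩
    apply (TensorProduct.rid k V).injective
    rw [map_zero]
    change slice ((glBasis hspan).coord h) _ = 0
    rw [map_sub, slice_coact_coactSlice, convFun_coord, slice_tmul, coord_apply]
    by_cases hhg : h = g
    · subst hhg
      simp
    · have : ¬ g = h := fun e => hhg e.symm
      simp [hhg, this, coactSlice, slice]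

theorem span_eigen_eq_top (hspan : Submodule.span k {a : A | IsGroupLikeElem k a} = ⊤) :
    Submodule.span k {v : V | ∃ a : A, HopfRep.Comod.coact (k := k) (A := A) v = v ⊗ₜ[k] a} = ⊤ := by
  classical
  rw [eq_top_iff]
  intro v _
  set b := glBasis hspan with hb
  set t := HopfRep.Comod.coact (k := k) (A := A) v with ht
  have h1 : t = (TensorProduct.equivFinsuppOfBasisRight b t).sum fun i m => m ⊗ₜ[k] b i := by
    rw [← TensorProduct.equivFinsuppOfBasisRight_symm_apply, LinearEquiv.symm_apply_apply]
  have h2 : v = slice (Coalgebra.counit (R := k) (A := A)) t := (coactSlice_counit v).symm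
  rw [h2, h1, Finsupp.sum, map_sum]
  apply Submodule.sum_mem
  intro g _
  rw [slice_tmul]
  apply Submodule.smul_mem
  apply Submodule.subset_span
  refine ⟨(g : A), ?_⟩
  have h3 : TensorProduct.equivFinsuppOfBasisRight b t g = coactSlice (C := A) (b.coord g) v := by
    rw [TensorProduct.equivFinsuppOfBasisRight_apply]
    rfl
  rw [h3]
  exact coact_coactSlice_coord hspan g v

omit [AddCommGroup V] [Module k V] [HopfRep.Comod k A V] in
/-- An element `v` of a coalgebra with `Δ v = v ⊗ a` lies in the span of the group-likes. -/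
theorem mem_span_groupLike_of_comul_eq (v a' : A)
    (h : Coalgebra.comul (R := k) v = v ⊗ₜ[k] a') :
    v ∈ Submodule.span k {a : A | IsGroupLikeElem k a} := by
  by_cases hv : v = 0
  · rw [hv]
    exact Submodule.zero_mem _
  · apply mem_span_groupLike_of_line v hv
    intro x hx
    obtain ⟨c, rfl⟩ := Submodule.mem_span_singleton.mp hx
    refine ⟨(c • (⟨v, Submodule.mem_span_singleton_self v⟩ : Submodule.span k {v})) ⊗ₜ[k] a', ?_⟩
    change _ = Coalgebra.comul (R := k) (c • v)
    rw [map_smul, h, LinearMap.rTensor_tmul, TensorProduct.smul_tmul']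
    rfl

omit [AddCommGroup V] [Module k V] [HopfRep.Comod k A V] in
theorem span_groupLike_eq_top_of_forall
    (h : ∀ (W : Submodule k A) (hW : HopfRep.IsSubcomod (k := k) (A := A) (V := A) W),
      Module.Finite k W →
      Submodule.span k {w : W | ∃ a : A,
        (ComodSub.Comod.restr (HopfRep.Comod.regular k A) W hW).coact w = w ⊗ₜ[k] a} = ⊤) :
    Submodule.span k {a : A | IsGroupLikeElem k a} = ⊤ := by
  rw [eq_top_iff]
  intro a _
  obtain ⟨W, hWfin, haW, hW⟩ := exists_finite_subcomod_mem (k := k) (C := A) (V := A) a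
  have hall : ∀ w : W, (w : A) ∈ Submodule.span k {a : A | IsGroupLikeElem k a} := by
    intro w
    have hw : w ∈ Submodule.span k {w : W | ∃ a : A,
        (ComodSub.Comod.restr (HopfRep.Comod.regular k A) W hW).coact w = w ⊗ₜ[k] a} := by
      rw [h W hW hWfin]
      trivial
    refine Submodule.span_induction (p := fun (w : W) _ => (w : A) ∈
      Submodule.span k {a : A | IsGroupLikeElem k a}) ?_ ?_ ?_ ?_ hw
    · rintro x ⟨a', ha'⟩
      apply mem_span_groupLike_of_comul_eq (x : A) a'
      have := ComodSub.restr_coact_coe (HopfRep.Comod.regular k A) W hW x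
      rw [ha', LinearMap.rTensor_tmul] at this
      exact this.symm
    · exact Submodule.zero_mem _
    · intro x y _ _ hx hy
      exact Submodule.add_mem _ hx hy
    · intro c x _ hx
      exact Submodule.smul_mem _ c hx
  exact hall ⟨a, haW⟩

end DiagEigen

end Groth.Agent.Lib.Helper16

namespace Groth.Agent.Lib.Helper16

namespace DiagEigen

open TensorProduct Groth.Agent.H40

variable {k : Type u} [Field k] {A : Type v} [AddCommGroup A] [Module k A] [Coalgebra k A]
  {V : Type w} [AddCommGroup V] [Module k V] [HopfRep.Comod k A V]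

/-- the line spanned by an eigenvector is a subcomodule -/
theorem isSubcomod_span_singleton_of_eigen (v : V) (a : A)
    (h : HopfRep.Comod.coact (k := k) (A := A) v = v ⊗ₜ[k] a) :
    HopfRep.IsSubcomod (k := k) (A := A) (Submodule.span k {v}) := by
  intro x hx
  obtain ⟨c, rfl⟩ := Submodule.mem_span_singleton.mp hx
  refine ⟨(c • (⟨v, Submodule.mem_span_singleton_self v⟩ : Submodule.span k {v})) ⊗ₜ[k] a, ?_⟩
  rw [map_smul, h, LinearMap.rTensor_tmul, TensorProduct.smul_tmul']
  rfl

/-- if a comodule is spanned by eigenvectors it is semisimple -/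
theorem isSemisimpleComod_of_span_eigen
    (hspan : Submodule.span k
      {v : V | ∃ a : A, HopfRep.Comod.coact (k := k) (A := A) v = v ⊗ₜ[k] a} = ⊤) :
    HopfRep.IsSemisimpleComod k A V := by
  intro W hW
  let ι := {v : V // v ≠ 0 ∧ ∃ a : A, HopfRep.Comod.coact (k := k) (A := A) v = v ⊗ₜ[k] a}
  let S : ι → Submodule k V := fun i => Submodule.span k {i.1}
  have hS : ∀ i, HopfRep.IsSubcomod (k := k) (A := A) (S i) := fun i => by
    obtain ⟨a, ha⟩ := i.2.2
    exact isSubcomod_span_singleton_of_eigen i.1 a ha
  have hsimple : ∀ i, S i ≠ ⊥ ∧ ∀ W' : Submodule k V, HopfRep.IsSubcomod (k := k) (A := A) W' →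
      W' ≤ S i → W' = ⊥ ∨ W' = S i := by
    intro i
    refine ⟨?_, fun W' _ hle => ?_⟩
    · rw [Ne, Submodule.span_singleton_eq_bot]
      exact i.2.1
    · by_cases h0 : W' = ⊥
      · exact Or.inl h0
      · right
        apply le_antisymm hle
        obtain ⟨x, hx, hx0⟩ := Submodule.exists_mem_ne_zero_of_ne_bot h0
        obtain ⟨c, rfl⟩ := Submodule.mem_span_singleton.mp (hle hx)
        have hc : c ≠ 0 := by
          rintro rfl
          exact hx0 (zero_smul _ _)
        rw [Submodule.span_singleton_le_iff_mem]
        have : i.1 = c⁻¹ • (c • i.1) := by rw [smul_smul, inv_mul_cancel₀ hc, one_smul]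
        rw [this]
        exact Submodule.smul_mem _ _ hx
  have hsum : ⨆ i, S i = ⊤ := by
    rw [eq_top_iff, ← hspan, Submodule.span_le]
    rintro v ⟨a, ha⟩
    by_cases hv : v = 0
    · rw [hv]
      exact Submodule.zero_mem _
    · exact Submodule.mem_iSup_of_mem (⟨v, hv, a, ha⟩ : ι) (Submodule.mem_span_singleton_self v)
  obtain ⟨J, -, hJ⟩ := Groth.Agent.S7972.result k A V S hS hsimple hsum W hW
  refine ⟨⨆ j : J, S j, ?_, hJ⟩
  rw [iSup]
  apply Groth.Agent.S7972.isSubcomod_sSup
  rintro _ ⟨j, rfl⟩
  exact hS j

end DiagEigen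

end Groth.Agent.Lib.Helper16
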