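import Mathlib.Topology.Spectral.ConstructibleTopology
import Mathlib.Topology.Constructible
import Groth.Prelude.Def_ProCons

/-!
# Pro- and ind-constructible sets: topological library (helper16)

`W` "spectral-ish": `[CompactSpace W] [QuasiSober W] [PrespectralSpace W] [QuasiSeparatedSpace W]`.
-/

namespace Groth.Agent.Lib.Helper16

open Topology Set

section Spectral

variable {W : Type*} [TopologicalSpace W]

/-- constructible sets are clopen in the constructible topology -/
lemma isOpen_constructibleTopology_of_isConstructible [CompactSpace W] [QuasiSeparatedSpace W]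
    {C : Set W} (hC : IsConstructible C) :
    IsOpen[constructibleTopology W] C ∧ IsOpen[constructibleTopology W] Cᶜ := by
  induction hC using IsConstructible.empty_union_induction with
  | open_retrocompact U hUo hUc =>
    exact ⟨hUc.isCompact.isOpen_constructibleTopology_of_isOpen hUo,
      IsCompact.isOpen_constructibleTopology_of_isClosed (by simpa using hUc.isCompact)
        hUo.isClosed_compl⟩
  | union s hs t ht hs' ht' =>
    refine ⟨@IsOpen.union _ _ _ (constructibleTopology W) hs'.1 ht'.1, ?_⟩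
    rw [compl_union]
    exact @IsOpen.inter _ (constructibleTopology W) _ _ hs'.2 ht'.2
  | compl s hs hs' => exact ⟨hs'.2, by rw [compl_compl]; exact hs'.1⟩

/-- Compactness of the constructible topology, phrased with constructible sets. -/
lemma exists_finite_sInter_eq_empty [CompactSpace W] [QuasiSober W] [PrespectralSpace W]
    [QuasiSeparatedSpace W] {Z : Set (Set W)} (hZ : ∀ C ∈ Z, IsConstructible C)
    (h : ⋂₀ Z = ∅) : ∃ Z₀ ⊆ Z, Z₀.Finite ∧ ⋂₀ Z₀ = ∅ := by
  classical
  let o : WithConstructibleTopology W → W := WithTopology.ofTopology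
  have hcl : ∀ C : Z, IsClosed (o ⁻¹' C.1) := by
    intro C
    rw [WithConstructibleTopology.isClosed_iff, ← @isOpen_compl_iff _ _ (constructibleTopology W)]
    exact (isOpen_constructibleTopology_of_isConstructible (hZ C.1 C.2)).2
  have hemp : ⋂ C : Z, o ⁻¹' C.1 = ∅ := by
    rw [← preimage_iInter, ← sInter_eq_iInter, h, preimage_empty]
  obtain ⟨t, ht⟩ := (isCompact_univ (X := WithConstructibleTopology W)).elim_finite_subfamily_closed
    (fun C : Z => o ⁻¹' C.1) hcl (by rw [hemp, inter_empty])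
  refine ⟨(↑) '' (t : Set Z), by simp, t.finite_toSet.image _, ?_⟩
  rw [eq_empty_iff_forall_notMem]
  intro x hx
  have : WithTopology.toTopology _ x ∈ univ ∩ ⋂ i ∈ t, o ⁻¹' i.1 := by
    refine ⟨mem_univ _, ?_⟩
    simp only [mem_iInter]
    intro i hi
    exact hx i.1 ⟨i, hi, rfl⟩
  rw [ht] at this
  exact this

/-- Compactness of the constructible topology, indexed version. -/
lemma exists_finset_iInter_eq_empty [CompactSpace W] [QuasiSober W] [PrespectralSpace W]
    [QuasiSeparatedSpace W] {ι : Type*} (Z : ι → Set W) (hZ : ∀ i, IsConstructible (Z i))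
    (h : ⋂ i, Z i = ∅) : ∃ t : Finset ι, ⋂ i ∈ t, Z i = ∅ := by
  classical
  let o : WithConstructibleTopology W → W := WithTopology.ofTopology
  have hcl : ∀ i, IsClosed (o ⁻¹' Z i) := by
    intro i
    rw [WithConstructibleTopology.isClosed_iff, ← @isOpen_compl_iff _ _ (constructibleTopology W)]
    exact (isOpen_constructibleTopology_of_isConstructible (hZ i)).2
  have hemp : ⋂ i, o ⁻¹' Z i = ∅ := by
    rw [← preimage_iInter, h, preimage_empty]
  obtain ⟨t, ht⟩ := (isCompact_univ (X := WithConstructibleTopology W)).elim_finite_subfamily_closed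
    (fun i => o ⁻¹' Z i) hcl (by rw [hemp, inter_empty])
  refine ⟨t, ?_⟩
  rw [eq_empty_iff_forall_notMem]
  intro x hx
  have : WithTopology.toTopology _ x ∈ univ ∩ ⋂ i ∈ t, o ⁻¹' Z i := by
    refine ⟨mem_univ _, ?_⟩
    simp only [mem_iInter] at hx ⊢
    intro i hi
    exact hx i hi
  rw [ht] at this
  exact this

/-- Compactness of the constructible topology, two-family version. -/
lemma exists_finite_sInter_subset_sUnion [CompactSpace W] [QuasiSober W] [PrespectralSpace W]
    [QuasiSeparatedSpace W] {S S' : Set (Set W)} (hS : ∀ C ∈ S, IsConstructible C)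
    (hS' : ∀ C ∈ S', IsConstructible C) (h : ⋂₀ S ⊆ ⋃₀ S') :
    ∃ S₀ ⊆ S, ∃ S'₀ ⊆ S', S₀.Finite ∧ S'₀.Finite ∧ ⋂₀ S₀ ⊆ ⋃₀ S'₀ := by
  classical
  have hZ : ∀ C ∈ S ∪ compl '' S', IsConstructible C := by
    rintro C (hC | ⟨D, hD, rfl⟩)
    · exact hS C hC
    · exact (hS' D hD).compl
  have hemp : ⋂₀ (S ∪ compl '' S') = ∅ := by
    rw [eq_empty_iff_forall_notMem]
    intro x hx
    rw [sInter_union] at hx
    obtain ⟨D, hD, hxD⟩ := h hx.1
    exact hx.2 Dᶜ ⟨D, hD, rfl⟩ hxD
  obtain ⟨Z₀, hZ₀, hfin, hZ₀e⟩ := exists_finite_sInter_eq_empty hZ hemp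
  refine ⟨Z₀ ∩ S, inter_subset_right, {D | D ∈ S' ∧ Dᶜ ∈ Z₀}, fun D hD => hD.1,
    hfin.subset inter_subset_left, ?_, ?_⟩
  · refine (hfin.preimage (f := compl) compl_injective.injOn).subset ?_
    intro D hD
    exact hD.2
  · intro x hx
    by_contra hcon
    have : x ∈ ⋂₀ Z₀ := by
      intro C hC
      rcases hZ₀ hC with hCS | ⟨D, hD, rfl⟩
      · exact hx C ⟨hC, hCS⟩
      · intro hxD
        exact hcon ⟨D, ⟨hD, hC⟩, hxD⟩
    rw [hZ₀e] at this
    exact this

end Spectral

section Bridge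

variable {X : Type*} [TopologicalSpace X]

lemma _root_.Topology.IsLocallyConstructible.compl' {Y : Type*} [TopologicalSpace Y] {s : Set Y}
    (hs : IsLocallyConstructible s) : IsLocallyConstructible sᶜ := by
  intro x
  obtain ⟨U, hxU, hU, hUs⟩ := hs x
  exact ⟨U, hxU, hU, by simpa using hUs.compl⟩

/-- Core separation lemma. -/
lemma exists_isConstructible_mem_of_isLocallyConstructible {U W : Set X} (hU : IsOpen U)
    (hW : IsOpen W) [CompactSpace W] [PrespectralSpace W] [QuasiSeparatedSpace W]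
    {T : Set U} (hT : IsLocallyConstructible T) (w : W) (hwU : w.1 ∈ U)
    (hwT : (⟨w.1, hwU⟩ : U) ∈ T) :
    ∃ C : Set W, IsConstructible C ∧ w ∈ C ∧ ∀ y ∈ C, ∃ h : y.1 ∈ U, (⟨y.1, h⟩ : U) ∈ T := by
  obtain ⟨V, ⟨hVo, hVc⟩, hwV, hVU⟩ :=
    (PrespectralSpace.isTopologicalBasis (X := W)).exists_subset_of_mem_open
      (show w ∈ (Subtype.val ⁻¹' U : Set W) from hwU) (hU.preimage continuous_subtype_val)
  let j : V → U := fun y => ⟨y.1.1, hVU y.2⟩
  have hj : IsOpenEmbedding j := by
    rw [← IsOpenEmbedding.of_comp_iff j hU.isOpenEmbedding_subtypeVal]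
    exact hW.isOpenEmbedding_subtypeVal.comp hVo.isOpenEmbedding_subtypeVal
  have : CompactSpace V := isCompact_iff_compactSpace.mp hVc
  have : PrespectralSpace V := hVo.isOpenEmbedding_subtypeVal.prespectralSpace
  have : QuasiSeparatedSpace V := hVo.isOpenEmbedding_subtypeVal.quasiSeparatedSpace
  have hTV : IsConstructible (j ⁻¹' T) := (hT.preimage_of_isOpenEmbedding hj).isConstructible
  refine ⟨Subtype.val '' (j ⁻¹' T), hTV.image_of_isOpenEmbedding hVo.isOpenEmbedding_subtypeVal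
    (by simpa using hVc.isRetrocompact hVo), ⟨⟨w, hwV⟩, hwT, rfl⟩, ?_⟩
  rintro _ ⟨y, hy, rfl⟩
  exact ⟨hVU y.2, hy⟩

/-- Bridge: an ind-constructible set, restricted to a spectral open `W`, is a union of
constructible subsets of `W`. -/
lemma exists_sUnion_of_isIndConstructible {E : Set X} (hE : ProCons.IsIndConstructible E)
    {W : Set X} (hW : IsOpen W) [CompactSpace W] [PrespectralSpace W] [QuasiSeparatedSpace W] :
    ∃ S : Set (Set W), (∀ C ∈ S, IsConstructible C) ∧ (Subtype.val ⁻¹' E : Set W) = ⋃₀ S := by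
  refine ⟨{C | IsConstructible C ∧ C ⊆ Subtype.val ⁻¹' E}, fun C hC => hC.1, ?_⟩
  apply subset_antisymm
  · intro w hw
    obtain ⟨U, hU, hwU, S, hS, hSE⟩ := hE w.1
    have : (⟨w.1, hwU⟩ : U) ∈ ⋃₀ S := by rw [← hSE]; exact hw
    obtain ⟨T, hT, hwT⟩ := this
    obtain ⟨C, hC, hwC, hCT⟩ :=
      exists_isConstructible_mem_of_isLocallyConstructible hU hW (hS T hT) w hwU hwT
    refine ⟨C, ⟨hC, ?_⟩, hwC⟩
    intro y hy
    obtain ⟨h, hyT⟩ := hCT y hy
    have : (⟨y.1, h⟩ : U) ∈ (Subtype.val ⁻¹' E : Set U) := by rw [hSE]; exact ⟨T, hT, hyT⟩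
    exact this
  · rintro w ⟨C, hC, hwC⟩
    exact hC.2 hwC

/-- Bridge: a pro-constructible set, restricted to a spectral open `W`, is an intersection of
constructible subsets of `W`. -/
lemma exists_sInter_of_isProConstructible {E : Set X} (hE : ProCons.IsProConstructible E)
    {W : Set X} (hW : IsOpen W) [CompactSpace W] [PrespectralSpace W] [QuasiSeparatedSpace W] :
    ∃ S : Set (Set W), (∀ C ∈ S, IsConstructible C) ∧ (Subtype.val ⁻¹' E : Set W) = ⋂₀ S := by
  refine ⟨{C | IsConstructible C ∧ Subtype.val ⁻¹' E ⊆ C}, fun C hC => hC.1, ?_⟩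
  apply subset_antisymm
  · intro w hw C hC
    exact hC.2 hw
  · intro w hw
    by_contra hwE
    obtain ⟨U, hU, hwU, S, hS, hSE⟩ := hE w.1
    have : (⟨w.1, hwU⟩ : U) ∉ ⋂₀ S := by rw [← hSE]; exact hwE
    simp only [mem_sInter, not_forall] at this
    obtain ⟨T, hT, hwT⟩ := this
    obtain ⟨C, hC, hwC, hCT⟩ :=
      exists_isConstructible_mem_of_isLocallyConstructible hU hW (hS T hT).compl' w hwU hwT
    have hmem : Cᶜ ∈ {C : Set W | IsConstructible C ∧ Subtype.val ⁻¹' E ⊆ C} := by
      refine ⟨hC.compl, ?_⟩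
      intro y hy hyC
      obtain ⟨h, hyT⟩ := hCT y hyC
      have : (⟨y.1, h⟩ : U) ∈ ⋂₀ S := by rw [← hSE]; exact hy
      exact hyT (this T hT)
    exact hw Cᶜ hmem hwC

lemma isIndConstructible_of_isLocallyConstructible {E : Set X} (hE : IsLocallyConstructible E) :
    ProCons.IsIndConstructible E := fun _ =>
  ⟨univ, isOpen_univ, mem_univ _, {Subtype.val ⁻¹' E}, by
    simpa using hE.preimage_of_isOpenEmbedding isOpen_univ.isOpenEmbedding_subtypeVal, by simp⟩

lemma isProConstructible_of_isLocallyConstructible {E : Set X} (hE : IsLocallyConstructible E) :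
    ProCons.IsProConstructible E := fun _ =>
  ⟨univ, isOpen_univ, mem_univ _, {Subtype.val ⁻¹' E}, by
    simpa using hE.preimage_of_isOpenEmbedding isOpen_univ.isOpenEmbedding_subtypeVal, by simp⟩

/-- ind + pro ⇒ constructible on every spectral open. -/
lemma isConstructible_preimage_of_ind_of_pro {E : Set X} (hi : ProCons.IsIndConstructible E)
    (hp : ProCons.IsProConstructible E) {W : Set X} (hW : IsOpen W) [CompactSpace W]
    [QuasiSober W] [PrespectralSpace W] [QuasiSeparatedSpace W] :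
    IsConstructible (Subtype.val ⁻¹' E : Set W) := by
  obtain ⟨S', hS', hE'⟩ := exists_sUnion_of_isIndConstructible hi hW
  obtain ⟨S, hS, hE⟩ := exists_sInter_of_isProConstructible hp hW
  obtain ⟨S₀, hS₀, S'₀, hS'₀, -, hfin, hsub⟩ :=
    exists_finite_sInter_subset_sUnion hS hS' (by rw [← hE, ← hE'])
  have : (Subtype.val ⁻¹' E : Set W) = ⋃₀ S'₀ := by
    apply subset_antisymm
    · rw [hE]
      exact (sInter_subset_sInter hS₀).trans hsub
    · rw [hE']
      exact sUnion_subset_sUnion hS'₀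
  rw [this]
  exact IsConstructible.sUnion hfin fun C hC => hS' C (hS'₀ hC)

/-- Local form of the finite-subfamily property. -/
lemma exists_finset_iInter_subset_of_spectral {E : Set X} (hE : ProCons.IsIndConstructible E)
    {ι : Type*} (F : ι → Set X) (hF : ∀ i, ProCons.IsProConstructible (F i))
    (h : ⋂ i, F i ⊆ E) {W : Set X} (hW : IsOpen W) [CompactSpace W]
    [QuasiSober W] [PrespectralSpace W] [QuasiSeparatedSpace W] :
    ∃ J : Finset ι, (⋂ i ∈ J, F i) ∩ W ⊆ E := by
  classical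
  obtain ⟨S', hS', hE'⟩ := exists_sUnion_of_isIndConstructible hE hW
  choose S hS hFS using fun i => exists_sInter_of_isProConstructible (hF i) hW
  -- index type: Σ i, S i
  have hsub : ⋂₀ (⋃ i, S i) ⊆ ⋃₀ S' := by
    intro w hw
    rw [← hE']
    apply h
    simp only [mem_iInter]
    intro i
    have : w ∈ (Subtype.val ⁻¹' F i : Set W) := by
      rw [hFS i]
      intro C hC
      exact hw C (mem_iUnion.mpr ⟨i, hC⟩)
    exact this
  obtain ⟨S₀, hS₀, S'₀, hS'₀, hfin, -, hsub'⟩ :=
    exists_finite_sInter_subset_sUnion (S := ⋃ i, S i) (S' := S')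
      (by
        intro C hC
        obtain ⟨i, hi⟩ := mem_iUnion.mp hC
        exact hS i C hi) hS' hsub
  have hidx : ∀ C : S₀, ∃ i, C.1 ∈ S i := fun C => mem_iUnion.mp (hS₀ C.2)
  choose idx hidx using hidx
  have : Fintype S₀ := hfin.fintype
  refine ⟨Finset.univ.image idx, ?_⟩
  rintro x ⟨hxF, hxW⟩
  have hx : (⟨x, hxW⟩ : W) ∈ ⋂₀ S₀ := by
    intro C hC
    have h1 : x ∈ F (idx ⟨C, hC⟩) := by
      simp only [mem_iInter] at hxF
      exact hxF _ (Finset.mem_image_of_mem _ (Finset.mem_univ _))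
    have h2 : (⟨x, hxW⟩ : W) ∈ (Subtype.val ⁻¹' F (idx ⟨C, hC⟩) : Set W) := h1
    rw [hFS] at h2
    exact h2 C (hidx ⟨C, hC⟩)
  have := sUnion_subset_sUnion hS'₀ (hsub' hx)
  rw [← hE'] at this
  exact this

/-- Local form of the interior criterion. -/
lemma mem_interior_of_forall_specializes {E : Set X} (hE : ProCons.IsIndConstructible E)
    {W : Set X} (hW : IsOpen W) [CompactSpace W]
    [QuasiSober W] [PrespectralSpace W] [QuasiSeparatedSpace W] {x : X} (hxW : x ∈ W)
    (hx : ∀ x' : X, x' ⤳ x → x' ∈ E) : x ∈ interior E := by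
  obtain ⟨S', hS', hE'⟩ := exists_sUnion_of_isIndConstructible hE hW
  set V : Set (Set W) := {V | IsOpen V ∧ IsCompact V ∧ (⟨x, hxW⟩ : W) ∈ V} with hVdef
  have hVc : ∀ C ∈ V, IsConstructible C := fun C hC => hC.2.1.isConstructible hC.1
  have hsub : ⋂₀ V ⊆ ⋃₀ S' := by
    intro y hy
    rw [← hE']
    apply hx
    apply Specializes.map (f := Subtype.val) (x := y) (y := ⟨x, hxW⟩) _ continuous_subtype_val
    rw [specializes_iff_forall_open]
    intro s hs hxs
    obtain ⟨V', ⟨hV'o, hV'c⟩, hxV', hV's⟩ :=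
      (PrespectralSpace.isTopologicalBasis (X := W)).exists_subset_of_mem_open hxs hs
    exact hV's (hy V' ⟨hV'o, hV'c, hxV'⟩)
  obtain ⟨V₀, hV₀, S'₀, hS'₀, hfin, -, hsub'⟩ := exists_finite_sInter_subset_sUnion hVc hS' hsub
  rw [mem_interior]
  refine ⟨Subtype.val '' ⋂₀ V₀, ?_, ?_, ?_⟩
  · rintro _ ⟨y, hy, rfl⟩
    have := sUnion_subset_sUnion hS'₀ (hsub' hy)
    rw [← hE'] at this
    exact this
  · exact hW.isOpenMap_subtype_val _ (hfin.isOpen_sInter fun C hC => (hV₀ hC).1)
  · exact ⟨⟨x, hxW⟩, fun C hC => (hV₀ hC).2.2, rfl⟩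

end Bridge

section Image

variable {W' U : Type*} [TopologicalSpace W'] [TopologicalSpace U]

/-- In a T0 prespectral quasi-separated space, a point is the intersection of the constructible
sets containing it. -/
lemma exists_isConstructible_mem_notMem [PrespectralSpace U] [QuasiSeparatedSpace U] [T0Space U]
    {u u' : U} (h : u' ≠ u) : ∃ D : Set U, IsConstructible D ∧ u ∈ D ∧ u' ∉ D := by
  obtain ⟨O, hO, hx⟩ := exists_isOpen_xor_mem h
  rcases hx with ⟨h1, h2⟩ | ⟨h1, h2⟩
  · obtain ⟨V, ⟨hVo, hVc⟩, hV, hVO⟩ :=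
      (PrespectralSpace.isTopologicalBasis (X := U)).exists_subset_of_mem_open h1 hO
    exact ⟨Vᶜ, (hVc.isConstructible hVo).compl, fun hu => h2 (hVO hu), fun hu => hu hV⟩
  · obtain ⟨V, ⟨hVo, hVc⟩, hV, hVO⟩ :=
      (PrespectralSpace.isTopologicalBasis (X := U)).exists_subset_of_mem_open h1 hO
    exact ⟨V, hVc.isConstructible hVo, hV, fun hu => h2 (hVO hu)⟩

/-- Images of pro-constructible sets under spectral maps: the separation form. -/
lemma exists_isConstructible_disjoint_of_notMem_image [CompactSpace W'] [QuasiSober W']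
    [PrespectralSpace W'] [QuasiSeparatedSpace W'] [PrespectralSpace U] [QuasiSeparatedSpace U]
    [T0Space U] {g : W' → U} (hg : ∀ D : Set U, IsConstructible D → IsConstructible (g ⁻¹' D))
    {S : Set (Set W')} (hS : ∀ C ∈ S, IsConstructible C) {u : U} (hu : u ∉ g '' ⋂₀ S) :
    ∃ D : Set U, IsConstructible D ∧ u ∈ D ∧ g ⁻¹' D ∩ ⋂₀ S = ∅ := by
  classical
  let 𝒟 : Set (Set U) := {D | IsConstructible D ∧ u ∈ D}
  let Z : 𝒟 ⊕ S → Set W' := Sum.elim (fun D => g ⁻¹' D.1) (fun C => C.1)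
  have hZ : ∀ i, IsConstructible (Z i) := by
    rintro (D | C)
    · exact hg _ D.2.1
    · exact hS _ C.2
  have hemp : ⋂ i, Z i = ∅ := by
    rw [eq_empty_iff_forall_notMem]
    intro y hy
    simp only [mem_iInter] at hy
    apply hu
    refine ⟨y, fun C hC => hy (Sum.inr ⟨C, hC⟩), ?_⟩
    by_contra hne
    obtain ⟨D, hD, huD, hgD⟩ := exists_isConstructible_mem_notMem hne
    exact hgD (hy (Sum.inl ⟨D, hD, huD⟩))
  obtain ⟨t, ht⟩ := exists_finset_iInter_eq_empty Z hZ hemp
  refine ⟨⋂ D ∈ t.toLeft, D.1, IsConstructible.biInter (Finset.finite_toSet _) fun D _ => D.2.1,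
    ?_, ?_⟩
  · simp only [mem_iInter]
    intro D _
    exact D.2.2
  · rw [eq_empty_iff_forall_notMem]
    rintro y ⟨hy1, hy2⟩
    have : y ∈ ⋂ i ∈ t, Z i := by
      simp only [mem_iInter]
      rintro (D | C) hi
      · simp only [mem_preimage, mem_iInter] at hy1
        exact hy1 D (Finset.mem_toLeft.mpr hi)
      · exact hy2 C.1 C.2
    rw [ht] at this
    exact this

end Image

end Groth.Agent.Lib.Helper16
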