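import Mathlib.AlgebraicGeometry.Morphisms.FinitePresentation
import Groth.Agent.Lib.Helper16.ProCons

/-!
# Pro- and ind-constructible subsets of schemes (helper16)
-/

namespace Groth.Agent.Lib.Helper16

open Topology Set AlgebraicGeometry CategoryTheory

universe u

/-- The subspace of an affine open is spectral. -/
lemma spectral_of_isAffineOpen {X : Scheme.{u}} {U : X.Opens} (hU : IsAffineOpen U) :
    CompactSpace (U : Set X) ∧ QuasiSober (U : Set X) ∧ PrespectralSpace (U : Set X) ∧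
      QuasiSeparatedSpace (U : Set X) ∧ T0Space (U : Set X) :=
  ⟨isCompact_iff_compactSpace.mp hU.isCompact, U.2.isOpenEmbedding_subtypeVal.quasiSober,
    U.2.isOpenEmbedding_subtypeVal.prespectralSpace,
    (isQuasiSeparated_iff_quasiSeparatedSpace _ U.2).mp hU.isQuasiSeparated, inferInstance⟩

/-- every point has an affine open neighbourhood inside a given open -/
lemma exists_affine_nhd {X : Scheme.{u}} (x : X) : ∃ U : X.Opens, IsAffineOpen U ∧ x ∈ U := by
  obtain ⟨U, hU, hxU, -⟩ := exists_isAffineOpen_mem_and_subset (X := X) (x := x) (U := ⊤) trivial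
  exact ⟨U, hU, hxU⟩

/-- The restriction of a morphism to affine opens, as a map of subtypes. -/
def resFun {X' X : Scheme.{u}} (f : X' ⟶ X) (U : X.Opens) (W' : X'.Opens) (e : W' ≤ f ⁻¹ᵁ U) :
    ↥(W' : Set X') → ↥(U : Set X) := fun y => ⟨f y.1, e y.2⟩

lemma resFun_eq {X' X : Scheme.{u}} (f : X' ⟶ X) (U : X.Opens) (W' : X'.Opens)
    (e : W' ≤ f ⁻¹ᵁ U) : resFun f U W' e = ⇑(f.resLE U W' e) := by
  funext y
  apply Subtype.ext
  exact (Scheme.Hom.coe_resLE_apply f e y).symm

lemma isConstructible_preimage_resFun {X' X : Scheme.{u}} (f : X' ⟶ X) (U : X.Opens)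
    (W' : X'.Opens) (e : W' ≤ f ⁻¹ᵁ U) {D : Set (U : Set X)} (hD : IsConstructible D) :
    IsConstructible (resFun f U W' e ⁻¹' D) := by
  rw [resFun_eq]
  exact (f.resLE U W' e).isConstructible_preimage hD

lemma isConstructible_image_resFun {X' X : Scheme.{u}} (f : X' ⟶ X)
    [LocallyOfFinitePresentation f] {U : X.Opens} (hU : IsAffineOpen U)
    {W' : X'.Opens} (hW' : IsAffineOpen W') (e : W' ≤ f ⁻¹ᵁ U) {D : Set (W' : Set X')}
    (hD : IsConstructible D) :
    IsConstructible (resFun f U W' e '' D) := by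
  rw [resFun_eq]
  have : IsAffine U.toScheme := hU
  have : IsAffine W'.toScheme := hW'
  exact (f.resLE U W' e).isConstructible_image hD

/-- Chevalley, ind-constructible form. -/
theorem isIndConstructible_image {X' X : Scheme.{u}} (f : X' ⟶ X)
    [LocallyOfFinitePresentation f] (E' : Set X') (hE' : ProCons.IsIndConstructible E') :
    ProCons.IsIndConstructible (f.base '' E') := by
  intro x
  obtain ⟨U, hU, hxU⟩ := exists_affine_nhd x
  refine ⟨U, U.2, hxU, {C | IsConstructible C ∧ C ⊆ Subtype.val ⁻¹' (f.base '' E')},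
    fun C hC => hC.1.isLocallyConstructible, ?_⟩
  apply subset_antisymm
  · rintro u ⟨e', he', hfe⟩
    have hmem : e' ∈ f ⁻¹ᵁ U := by
      change f.base e' ∈ U
      rw [hfe]
      exact u.2
    obtain ⟨W', hW', heW', hW'U⟩ := exists_isAffineOpen_mem_and_subset hmem
    have e : W' ≤ f ⁻¹ᵁ U := hW'U
    obtain ⟨_, _, _, _, _⟩ := spectral_of_isAffineOpen hW'
    obtain ⟨S', hS', hES'⟩ := exists_sUnion_of_isIndConstructible hE' (W := (W' : Set X')) W'.2
    have : (⟨e', heW'⟩ : (W' : Set X')) ∈ ⋃₀ S' := by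
      rw [← hES']
      exact he'
    obtain ⟨D, hD, heD⟩ := this
    refine ⟨resFun f U W' e '' D, ⟨isConstructible_image_resFun f hU hW' e (hS' D hD), ?_⟩,
      ⟨⟨e', heW'⟩, heD, Subtype.ext hfe⟩⟩
    rintro _ ⟨y, hy, rfl⟩
    have : y ∈ (Subtype.val ⁻¹' E' : Set (W' : Set X')) := by
      rw [hES']
      exact ⟨D, hD, hy⟩
    exact ⟨y.1, this, rfl⟩
  · rintro u ⟨C, hC, huC⟩
    exact hC.2 huC

/-- Local separation for images of pro-constructible sets. -/
lemma exists_isConstructible_of_notMem_image {X' X : Scheme.{u}} (f : X' ⟶ X) {E' : Set X'}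
    (hE' : ProCons.IsProConstructible E') {U : X.Opens} (hU : IsAffineOpen U) {W' : X'.Opens}
    (hW' : IsAffineOpen W') (e : W' ≤ f ⁻¹ᵁ U) (u : (U : Set X)) (hu : u.1 ∉ f.base '' E') :
    ∃ D : Set (U : Set X), IsConstructible D ∧ u ∈ D ∧
      ∀ y : (W' : Set X'), y.1 ∈ E' → resFun f U W' e y ∉ D := by
  obtain ⟨_, _, _, _, _⟩ := spectral_of_isAffineOpen hW'
  obtain ⟨_, _, _, _, _⟩ := spectral_of_isAffineOpen hU
  obtain ⟨S, hS, hES⟩ := exists_sInter_of_isProConstructible hE' (W := (W' : Set X')) W'.2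
  have hu' : u ∉ resFun f U W' e '' ⋂₀ S := by
    rintro ⟨y, hy, rfl⟩
    rw [← hES] at hy
    exact hu ⟨y.1, hy, rfl⟩
  obtain ⟨D, hD, huD, hdisj⟩ := exists_isConstructible_disjoint_of_notMem_image
    (g := resFun f U W' e) (fun D hD => isConstructible_preimage_resFun f U W' e hD) hS hu'
  refine ⟨D, hD, huD, fun y hy hyD => ?_⟩
  have : y ∈ resFun f U W' e ⁻¹' D ∩ ⋂₀ S := by
    refine ⟨hyD, ?_⟩
    rw [← hES]
    exact hy
  rw [hdisj] at this
  exact this

/-- Images of pro-constructible sets under quasi-compact morphisms. -/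
theorem isProConstructible_image {X' X : Scheme.{u}} (f : X' ⟶ X) [QuasiCompact f]
    (E' : Set X') (hE' : ProCons.IsProConstructible E') :
    ProCons.IsProConstructible (f.base '' E') := by
  classical
  intro x
  obtain ⟨U, hU, hxU⟩ := exists_affine_nhd x
  refine ⟨U, U.2, hxU, {C | IsConstructible C ∧ Subtype.val ⁻¹' (f.base '' E') ⊆ C},
    fun C hC => hC.1.isLocallyConstructible, ?_⟩
  apply subset_antisymm
  · intro u hu C hC
    exact hC.2 hu
  · intro u hu
    by_contra huE
    have huE' : u.1 ∉ f.base '' E' := huE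
    obtain ⟨s, hs, hcov⟩ := (isCompact_and_isOpen_iff_finite_and_eq_biUnion_affineOpens
      (X := X') (U := f ⁻¹ᵁ U)).mp
        ⟨QuasiCompact.isCompact_preimage (f := f) _ U.2 hU.isCompact, (f ⁻¹ᵁ U).2⟩
    have hloc : ∀ W' : X'.affineOpens, ∃ D : Set (U : Set X), IsConstructible D ∧ u ∈ D ∧
        ∀ e : W'.1 ≤ f ⁻¹ᵁ U, ∀ y : (W'.1 : Set X'), y.1 ∈ E' → resFun f U W'.1 e y ∉ D := by
      intro W'
      by_cases e : W'.1 ≤ f ⁻¹ᵁ U
      · obtain ⟨D, hD, huD, h⟩ := exists_isConstructible_of_notMem_image f hE' hU W'.2 e u huE'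
        exact ⟨D, hD, huD, fun _ => h⟩
      · exact ⟨univ, IsConstructible.univ, mem_univ _, fun e' => absurd e' e⟩
    choose Df hDf huDf hDf' using hloc
    have hD : IsConstructible (⋂ W' ∈ s, Df W') := IsConstructible.biInter hs fun W' _ => hDf W'
    have hmem : (⋂ W' ∈ s, Df W')ᶜ ∈
        {C : Set (U : Set X) | IsConstructible C ∧ Subtype.val ⁻¹' (f.base '' E') ⊆ C} := by
      refine ⟨hD.compl, ?_⟩
      rintro y ⟨e', he', hfe⟩ hyD
      have hmem : e' ∈ (f ⁻¹ᵁ U : Set X') := by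
        change f.base e' ∈ U
        rw [hfe]
        exact y.2
      rw [hcov] at hmem
      simp only [mem_iUnion] at hmem
      obtain ⟨W', hW's, heW'⟩ := hmem
      have e : W'.1 ≤ f ⁻¹ᵁ U := by
        intro z hz
        change z ∈ (f ⁻¹ᵁ U : Set X')
        rw [hcov]
        simp only [mem_iUnion]
        exact ⟨W', hW's, hz⟩
      apply hDf' W' e ⟨e', heW'⟩ he'
      simp only [mem_iInter] at hyD
      have := hyD W' hW's
      convert this using 1
      exact Subtype.ext hfe
    have := hu _ hmem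
    apply this
    simp only [mem_iInter]
    intro W' _
    exact huDf W'

end Groth.Agent.Lib.Helper16
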