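import Groth.Agent.Lib.Helper16.ProConsScheme

/-!
# More on pro- and ind-constructible sets: complements, preimages, finite subcovers (helper16)
-/

namespace Groth.Agent.Lib.Helper16

open Topology Set AlgebraicGeometry CategoryTheory

universe u

section Top

variable {X : Type*} [TopologicalSpace X]

lemma isProConstructible_compl {E : Set X} (hE : ProCons.IsIndConstructible E) :
    ProCons.IsProConstructible Eᶜ := by
  intro x
  obtain ⟨U, hU, hxU, S, hS, hSE⟩ := hE x
  refine ⟨U, hU, hxU, compl '' S, ?_, ?_⟩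
  · rintro _ ⟨T, hT, rfl⟩
    exact (hS T hT).compl'
  · rw [preimage_compl, hSE, compl_sUnion]

lemma isIndConstructible_compl {E : Set X} (hE : ProCons.IsProConstructible E) :
    ProCons.IsIndConstructible Eᶜ := by
  intro x
  obtain ⟨U, hU, hxU, S, hS, hSE⟩ := hE x
  refine ⟨U, hU, hxU, compl '' S, ?_, ?_⟩
  · rintro _ ⟨T, hT, rfl⟩
    exact (hS T hT).compl'
  · rw [preimage_compl, hSE, compl_sInter]

lemma isProConstructible_of_compl {E : Set X} (hE : ProCons.IsIndConstructible Eᶜ) :
    ProCons.IsProConstructible E := by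
  simpa using isProConstructible_compl hE

lemma isIndConstructible_of_compl {E : Set X} (hE : ProCons.IsProConstructible Eᶜ) :
    ProCons.IsIndConstructible E := by
  simpa using isIndConstructible_compl hE

/-- Local form of the finite subcover property. -/
lemma exists_finset_subset_iUnion_of_spectral {F : Set X} (hF : ProCons.IsProConstructible F)
    {ι : Type*} (E : ι → Set X) (hE : ∀ i, ProCons.IsIndConstructible (E i))
    (h : F ⊆ ⋃ i, E i) {W : Set X} (hW : IsOpen W) [CompactSpace W]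
    [QuasiSober W] [PrespectralSpace W] [QuasiSeparatedSpace W] :
    ∃ J : Finset ι, F ∩ W ⊆ ⋃ i ∈ J, E i := by
  classical
  obtain ⟨S, hS, hFS⟩ := exists_sInter_of_isProConstructible hF hW
  choose S' hS' hES' using fun i => exists_sUnion_of_isIndConstructible (hE i) hW
  have hsub : ⋂₀ S ⊆ ⋃₀ (⋃ i, S' i) := by
    intro w hw
    rw [← hFS] at hw
    obtain ⟨i, hi⟩ := mem_iUnion.mp (h hw)
    have : w ∈ (Subtype.val ⁻¹' E i : Set W) := hi
    rw [hES' i] at this
    obtain ⟨C, hC, hwC⟩ := this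
    exact ⟨C, mem_iUnion.mpr ⟨i, hC⟩, hwC⟩
  obtain ⟨S₀, hS₀, S'₀, hS'₀, -, hfin, hsub'⟩ :=
    exists_finite_sInter_subset_sUnion (S := S) (S' := ⋃ i, S' i) hS
      (by
        intro C hC
        obtain ⟨i, hi⟩ := mem_iUnion.mp hC
        exact hS' i C hi) hsub
  have hidx : ∀ C : S'₀, ∃ i, C.1 ∈ S' i := fun C => mem_iUnion.mp (hS'₀ C.2)
  choose idx hidx using hidx
  have : Fintype S'₀ := hfin.fintype
  refine ⟨Finset.univ.image idx, ?_⟩
  rintro x ⟨hxF, hxW⟩
  have hx : (⟨x, hxW⟩ : W) ∈ ⋂₀ S := by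
    rw [← hFS]
    exact hxF
  obtain ⟨C, hC, hxC⟩ := hsub' (sInter_subset_sInter hS₀ hx)
  have : (⟨x, hxW⟩ : W) ∈ (Subtype.val ⁻¹' E (idx ⟨C, hC⟩) : Set W) := by
    rw [hES']
    exact ⟨C, hidx ⟨C, hC⟩, hxC⟩
  simp only [mem_iUnion]
  exact ⟨idx ⟨C, hC⟩, Finset.mem_image_of_mem _ (Finset.mem_univ _), this⟩

end Top

section Scheme

/-- Preimages of ind-constructible sets under morphisms of schemes. -/
theorem isIndConstructible_preimage {X Y : Scheme.{u}} (f : X ⟶ Y) {E : Set Y}
    (hE : ProCons.IsIndConstructible E) : ProCons.IsIndConstructible (f.base ⁻¹' E) := by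
  intro x
  obtain ⟨U, hU, hxU⟩ := exists_affine_nhd (f.base x)
  have hmem : x ∈ f ⁻¹ᵁ U := hxU
  obtain ⟨W', hW', hxW', hW'U⟩ := exists_isAffineOpen_mem_and_subset hmem
  have e : W' ≤ f ⁻¹ᵁ U := hW'U
  obtain ⟨_, _, _, _, _⟩ := spectral_of_isAffineOpen hU
  obtain ⟨S', hS', hES'⟩ := exists_sUnion_of_isIndConstructible hE (W := (U : Set Y)) U.2
  refine ⟨W', W'.2, hxW', (fun C => resFun f U W' e ⁻¹' C) '' S', ?_, ?_⟩
  · rintro _ ⟨C, hC, rfl⟩
    exact (isConstructible_preimage_resFun f U W' e (hS' C hC)).isLocallyConstructible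
  · have : (Subtype.val ⁻¹' (f.base ⁻¹' E) : Set (W' : Set X)) =
        resFun f U W' e ⁻¹' (Subtype.val ⁻¹' E) := rfl
    rw [this, hES', preimage_sUnion, sUnion_image]

/-- Preimages of pro-constructible sets under morphisms of schemes. -/
theorem isProConstructible_preimage {X Y : Scheme.{u}} (f : X ⟶ Y) {E : Set Y}
    (hE : ProCons.IsProConstructible E) : ProCons.IsProConstructible (f.base ⁻¹' E) := by
  apply isProConstructible_of_compl
  rw [← preimage_compl]
  exact isIndConstructible_preimage f (isIndConstructible_compl hE)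

end Scheme

end Groth.Agent.Lib.Helper16
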