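import Mathlib.AlgebraicGeometry.AffineTransitionLimit
import Groth.Agent.Lib.Helper16.ProConsMore

/-!
# Pro and ind constructible sets and cofiltered limits with affine transition maps
-/

namespace Groth.Agent.Lib.Helper16

open CategoryTheory AlgebraicGeometry Topology Set

universe u

section

variable {I : Type u} [SmallCategory I] (D : I ⥤ Scheme.{u})

/-- `A ⊆ D.obj k` has empty preimage at some finite stage. -/
def EventuallyEmpty (k : I) (A : Set (D.obj k)) : Prop :=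
  ∃ (j : I) (φ : j ⟶ k), (D.map φ).base ⁻¹' A = ∅

variable {D}

lemma EventuallyEmpty.mono {k : I} {A B : Set (D.obj k)} (h : A ⊆ B)
    (hB : EventuallyEmpty D k B) : EventuallyEmpty D k A := by
  obtain ⟨j, φ, hφ⟩ := hB
  exact ⟨j, φ, subset_empty_iff.mp (hφ ▸ preimage_mono h)⟩

lemma EventuallyEmpty.empty (k : I) : EventuallyEmpty D k ∅ := ⟨k, 𝟙 k, preimage_empty⟩

lemma EventuallyEmpty.union [IsCofiltered I] {k : I} {A B : Set (D.obj k)} (hA : EventuallyEmpty D k A)
    (hB : EventuallyEmpty D k B) : EventuallyEmpty D k (A ∪ B) := by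
  obtain ⟨j₁, φ₁, h₁⟩ := hA
  obtain ⟨j₂, φ₂, h₂⟩ := hB
  obtain ⟨l, g₁, g₂, e⟩ := IsCofiltered.cospan φ₁ φ₂
  refine ⟨l, g₁ ≫ φ₁, ?_⟩
  rw [preimage_union, eq_empty_iff_forall_notMem]
  rintro y (hy | hy)
  · have : (D.map g₁).base y ∈ (D.map φ₁).base ⁻¹' A := by
      rw [mem_preimage, ← Scheme.Hom.comp_apply, ← D.map_comp]; exact hy
    rw [h₁] at this; exact this
  · have : (D.map g₂).base y ∈ (D.map φ₂).base ⁻¹' B := by
      rw [mem_preimage, ← Scheme.Hom.comp_apply, ← D.map_comp, ← e]; exact hy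
    rw [h₂] at this; exact this

lemma EventuallyEmpty.biUnion [IsCofiltered I] {k : I} {ι : Type*} (t : Finset ι) (A : ι → Set (D.obj k))
    (h : ∀ i ∈ t, EventuallyEmpty D k (A i)) : EventuallyEmpty D k (⋃ i ∈ t, A i) := by
  classical
  induction t using Finset.induction_on with
  | empty => simpa using EventuallyEmpty.empty k
  | insert a t hat ih =>
    rw [Finset.set_biUnion_insert]
    exact (h a (Finset.mem_insert_self a t)).union
      (ih fun i hi => h i (Finset.mem_insert_of_mem hi))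

end

section Limit

variable {I : Type u} [SmallCategory I] [IsCofiltered I] (D : I ⥤ Scheme.{u})
  (c : Limits.Cone D) (hc : Limits.IsLimit c) [∀ {i j : I} (f : i ⟶ j), IsAffineHom (D.map f)]

include hc in
/-- Step 3: a constructible subset of an affine open of a stage with empty preimage in the limit
has empty preimage at a finite stage. -/
lemma eventuallyEmpty_of_isConstructible {k : I} {U : (D.obj k).Opens} (hU : IsAffineOpen U)
    (K : Set (U : Set (D.obj k))) (hK : IsConstructible K)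
    (hπ : (c.π.app k).base ⁻¹' (Subtype.val '' K) = ∅) :
    EventuallyEmpty D k (Subtype.val '' K) := by
  obtain ⟨_, _, _, _, _⟩ := spectral_of_isAffineOpen hU
  revert hπ
  have : Nonempty {V : Set (U : Set (D.obj k)) // IsOpen V ∧ IsCompact V} :=
    ⟨⟨∅, isOpen_empty, isCompact_empty⟩⟩
  induction K, hK using IsConstructible.induction_of_isTopologicalBasis
    (fun V : {V : Set (U : Set (D.obj k)) // IsOpen V ∧ IsCompact V} => V.1)
    (by
      have := PrespectralSpace.isTopologicalBasis (X := (U : Set (D.obj k)))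
      convert this using 1
      ext V
      simp)
    (fun V => V.2.2) with
  | sdiff i s hs =>
    intro hπ
    have hopen : ∀ V : Set (U : Set (D.obj k)), IsOpen V →
        IsOpen (Subtype.val '' V : Set (D.obj k)) :=
      fun V hV => U.2.isOpenMap_subtype_val V hV
    have hVo : IsOpen (Subtype.val '' i.1 : Set (D.obj k)) := hopen _ i.2.1
    have hV'o : IsOpen (Subtype.val '' (⋃ j ∈ s, j.1) : Set (D.obj k)) :=
      hopen _ (isOpen_biUnion fun j _ => j.2.1)
    have hVc : IsCompact (Subtype.val '' i.1 : Set (D.obj k)) :=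
      i.2.2.image continuous_subtype_val
    have H : c.π.app k ⁻¹ᵁ ⟨_, hVo⟩ ≤ c.π.app k ⁻¹ᵁ ⟨_, hV'o⟩ := by
      intro x hx
      by_contra hx'
      have hx1 : (c.π.app k).base x ∈ Subtype.val '' i.1 := hx
      have hx2 : (c.π.app k).base x ∉ Subtype.val '' (⋃ j ∈ s, j.1) := hx'
      obtain ⟨u, hu, hux⟩ := hx1
      have : x ∈ (c.π.app k).base ⁻¹' (Subtype.val '' (i.1 \ ⋃ j ∈ s, j.1)) :=
        ⟨u, ⟨hu, fun hu' => hx2 ⟨u, hu', hux⟩⟩, hux⟩
      rw [hπ] at this
      exact this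
    obtain ⟨j, φ, hφ⟩ := exists_map_preimage_le_map_preimage D c hc
      (U := ⟨_, hVo⟩) (V := ⟨_, hV'o⟩) hVc H
    refine ⟨j, φ, ?_⟩
    rw [eq_empty_iff_forall_notMem]
    rintro y ⟨u, ⟨hu, hu'⟩, huy⟩
    have hy : y ∈ D.map φ ⁻¹ᵁ ⟨_, hVo⟩ := ⟨u, hu, huy⟩
    obtain ⟨u', hu'', hu'y⟩ := hφ hy
    have : u' = u := Subtype.ext (hu'y.trans huy.symm)
    exact hu' (this ▸ hu'')
  | union s hs t ht ihs iht =>
    intro hπ
    rw [image_union, preimage_union, union_empty_iff] at hπ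
    rw [image_union]
    exact (ihs hπ.1).union (iht hπ.2)

include hc in
/-- Step 2: on an affine open of a stage, `E \ F` is contained in a constructible set whose
preimage in the limit is empty. -/
lemma exists_isConstructible_of_preimage_subset {k : I} {E F : Set (D.obj k)}
    (hE : ProCons.IsProConstructible E) (hF : ProCons.IsIndConstructible F)
    (h : (c.π.app k).base ⁻¹' E ⊆ (c.π.app k).base ⁻¹' F) {U : (D.obj k).Opens}
    (hU : IsAffineOpen U) :
    ∃ K : Set (U : Set (D.obj k)), IsConstructible K ∧ (E \ F) ∩ U ⊆ Subtype.val '' K ∧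
      (c.π.app k).base ⁻¹' (Subtype.val '' K) = ∅ := by
  classical
  obtain ⟨_, _, _, _, _⟩ := spectral_of_isAffineOpen hU
  have hπaff := isAffineHom_π_app D c hc k
  have hW : IsAffineOpen (c.π.app k ⁻¹ᵁ U) := hU.preimage (c.π.app k)
  obtain ⟨_, _, _, _, _⟩ := spectral_of_isAffineOpen hW
  obtain ⟨𝒮, h𝒮, hE'⟩ := exists_sInter_of_isProConstructible hE (W := (U : Set (D.obj k))) U.2
  obtain ⟨𝒮', h𝒮', hF'⟩ := exists_sUnion_of_isIndConstructible hF (W := (U : Set (D.obj k))) U.2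
  let ρ := resFun (c.π.app k) U (c.π.app k ⁻¹ᵁ U) le_rfl
  let Z : 𝒮 ⊕ 𝒮' → Set ↥((c.π.app k ⁻¹ᵁ U : (c.pt).Opens) : Set c.pt) :=
    Sum.elim (fun C => ρ ⁻¹' C.1) (fun C => (ρ ⁻¹' C.1)ᶜ)
  have hZ : ∀ i, IsConstructible (Z i) := by
    rintro (C | C)
    · exact isConstructible_preimage_resFun _ _ _ _ (h𝒮 _ C.2)
    · exact (isConstructible_preimage_resFun _ _ _ _ (h𝒮' _ C.2)).compl
  have hempty : ⋂ i, Z i = ∅ := by
    rw [eq_empty_iff_forall_notMem]
    intro w hw
    rw [mem_iInter] at hw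
    have hwE : ρ w ∈ (Subtype.val ⁻¹' E : Set (U : Set (D.obj k))) := by
      rw [hE']; intro C hC; exact hw (Sum.inl ⟨C, hC⟩)
    have hwF : ρ w ∈ (Subtype.val ⁻¹' F : Set (U : Set (D.obj k))) := h hwE
    rw [hF'] at hwF
    obtain ⟨C', hC', hwC'⟩ := hwF
    exact hw (Sum.inr ⟨C', hC'⟩) hwC'
  obtain ⟨t, ht⟩ := exists_finset_iInter_eq_empty Z hZ hempty
  let Z' : 𝒮 ⊕ 𝒮' → Set (U : Set (D.obj k)) := Sum.elim (fun C => C.1) (fun C => C.1ᶜ)
  refine ⟨⋂ i ∈ t, Z' i, ?_, ?_, ?_⟩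
  · refine IsConstructible.biInter t.finite_toSet (fun i _ => ?_)
    rcases i with C | C
    · exact h𝒮 _ C.2
    · exact (h𝒮' _ C.2).compl
  · rintro x ⟨⟨hxE, hxF⟩, hxU⟩
    refine ⟨⟨x, hxU⟩, ?_, rfl⟩
    rw [mem_iInter₂]
    rintro (C | C) _
    · have : (⟨x, hxU⟩ : (U : Set (D.obj k))) ∈
          (Subtype.val ⁻¹' E : Set (U : Set (D.obj k))) := hxE
      rw [hE'] at this
      exact this C.1 C.2
    · intro hxC
      apply hxF
      have : (⟨x, hxU⟩ : (U : Set (D.obj k))) ∈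
          (Subtype.val ⁻¹' F : Set (U : Set (D.obj k))) := by
        rw [hF']; exact ⟨C.1, C.2, hxC⟩
      exact this
  · rw [eq_empty_iff_forall_notMem]
    rintro s ⟨u, hu, hus⟩
    have hsW : s ∈ c.π.app k ⁻¹ᵁ U := by
      change (c.π.app k).base s ∈ U
      rw [← hus]; exact u.2
    have e : ρ ⟨s, hsW⟩ = u := Subtype.ext hus.symm
    have : (⟨s, hsW⟩ : ↥((c.π.app k ⁻¹ᵁ U : (c.pt).Opens) : Set c.pt)) ∈ ⋂ i ∈ t, Z i := by
      rw [mem_iInter₂]
      rw [mem_iInter₂] at hu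
      rintro (C | C) hi
      · change ρ ⟨s, hsW⟩ ∈ C.1
        rw [e]; exact hu _ hi
      · change ρ ⟨s, hsW⟩ ∉ C.1
        rw [e]; exact hu _ hi
    rw [ht] at this
    exact this

include hc in
/-- Steps 2 and 3 combined over a finite affine cover. -/
lemma eventuallyEmpty_sdiff {k : I} [CompactSpace (D.obj k)] {E F : Set (D.obj k)}
    (hE : ProCons.IsProConstructible E) (hF : ProCons.IsIndConstructible F)
    (h : (c.π.app k).base ⁻¹' E ⊆ (c.π.app k).base ⁻¹' F) : EventuallyEmpty D k (E \ F) := by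
  classical
  choose U hU hxU using fun x : D.obj k => exists_affine_nhd x
  obtain ⟨t, ht⟩ := isCompact_univ.elim_finite_subcover (fun x => (U x : Set (D.obj k)))
    (fun x => (U x).2) (fun x _ => mem_iUnion.mpr ⟨x, hxU x⟩)
  choose K hK hsub hπ using
    fun x => exists_isConstructible_of_preimage_subset D c hc hE hF h (hU x)
  refine EventuallyEmpty.mono ?_ (EventuallyEmpty.biUnion t (fun x => Subtype.val '' K x)
    (fun x _ => eventuallyEmpty_of_isConstructible D c hc (hU x) (K x) (hK x) (hπ x)))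
  intro y hy
  obtain ⟨x, hxt, hyx⟩ := mem_iUnion₂.mp (ht (mem_univ y))
  exact mem_iUnion₂.mpr ⟨x, hxt, hsub x ⟨hy, hyx⟩⟩

include hc in
/-- Step 1: compactness of the constructible topology on the limit. -/
lemma exists_index_preimage_subset (i₀ : I) [CompactSpace (D.obj i₀)]
    (E F : ∀ i : I, Set (D.obj i))
    (hE : ∀ i, ProCons.IsProConstructible (E i)) (hF : ∀ i, ProCons.IsIndConstructible (F i))
    (hEm : ∀ (i j : I) (φ : i ⟶ j), E i ⊆ (D.map φ).base ⁻¹' E j)
    (hFm : ∀ (i j : I) (φ : i ⟶ j), (D.map φ).base ⁻¹' F j ⊆ F i)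
    (h : (⋂ i, (c.π.app i).base ⁻¹' E i : Set c.pt) ⊆ ⋃ i, (c.π.app i).base ⁻¹' F i) :
    ∃ (k : I) (_ : k ⟶ i₀), (c.π.app k).base ⁻¹' E k ⊆ (c.π.app k).base ⁻¹' F k := by
  classical
  have hπaff := isAffineHom_π_app D c hc i₀
  have : CompactSpace c.pt := QuasiCompact.compactSpace_of_compactSpace (c.π.app i₀)
  let G : I ⊕ I → Set c.pt :=
    Sum.elim (fun b => (c.π.app b).base ⁻¹' F b) (fun a => ((c.π.app a).base ⁻¹' E a)ᶜ)
  have hG : ∀ i, ProCons.IsIndConstructible (G i) := by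
    rintro (b | a)
    · exact isIndConstructible_preimage _ (hF b)
    · exact isIndConstructible_compl (isProConstructible_preimage _ (hE a))
  have hcov : (univ : Set c.pt) ⊆ ⋃ i, G i := by
    intro x _
    by_cases hx : x ∈ ⋂ i, (c.π.app i).base ⁻¹' E i
    · obtain ⟨b, hb⟩ := mem_iUnion.mp (h hx)
      exact mem_iUnion.mpr ⟨Sum.inl b, hb⟩
    · rw [mem_iInter] at hx
      push Not at hx
      obtain ⟨a, ha⟩ := hx
      exact mem_iUnion.mpr ⟨Sum.inr a, ha⟩
  have huniv : ProCons.IsProConstructible (univ : Set c.pt) :=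
    isProConstructible_of_isLocallyConstructible IsLocallyConstructible.univ
  choose W hW hxW using fun x : c.pt => exists_affine_nhd x
  obtain ⟨t, ht⟩ := isCompact_univ.elim_finite_subcover (fun x => (W x : Set c.pt))
    (fun x => (W x).2) (fun x _ => mem_iUnion.mpr ⟨x, hxW x⟩)
  have key : ∀ x, ∃ J : Finset (I ⊕ I), univ ∩ (W x : Set c.pt) ⊆ ⋃ i ∈ J, G i := by
    intro x
    obtain ⟨_, _, _, _, _⟩ := spectral_of_isAffineOpen (hW x)
    exact exists_finset_subset_iUnion_of_spectral huniv G hG hcov (W x).2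
  choose J hJ using key
  let O : Finset I := insert i₀ (t.biUnion fun x => (J x).image (Sum.elim id id))
  obtain ⟨k, hk⟩ := IsCofiltered.inf_objs_exists O
  refine ⟨k, (hk (Finset.mem_insert_self _ _)).some, ?_⟩
  intro s hs
  obtain ⟨x, hxt, hsx⟩ := mem_iUnion₂.mp (ht (mem_univ s))
  obtain ⟨i, hiJ, hsi⟩ := mem_iUnion₂.mp (hJ x ⟨mem_univ s, hsx⟩)
  rcases i with b | a
  · have hiO : b ∈ O := Finset.mem_insert_of_mem
      (Finset.mem_biUnion.mpr ⟨x, hxt, Finset.mem_image.mpr ⟨Sum.inl b, hiJ, rfl⟩⟩)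
    obtain ⟨φ⟩ := hk hiO
    have hw : c.π.app k ≫ D.map φ = c.π.app b := c.w φ
    apply hFm k b φ
    change (D.map φ).base ((c.π.app k).base s) ∈ F b
    have hsi' : (c.π.app b).base s ∈ F b := hsi
    rw [← hw] at hsi'
    exact hsi'
  · exfalso
    have hiO : a ∈ O := Finset.mem_insert_of_mem
      (Finset.mem_biUnion.mpr ⟨x, hxt, Finset.mem_image.mpr ⟨Sum.inr a, hiJ, rfl⟩⟩)
    obtain ⟨φ⟩ := hk hiO
    apply hsi
    have hw : c.π.app k ≫ D.map φ = c.π.app a := c.w φ
    change (c.π.app a).base s ∈ E a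
    rw [← hw]
    exact hEm k a φ hs

end Limit

end Groth.Agent.Lib.Helper16
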