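import Mathlib.AlgebraicGeometry.Noetherian
import Groth.Agent.Lib.Helper16.ProConsScheme

/-!
# Ind-constructible sets and closures of points (helper16)
-/

namespace Groth.Agent.Lib.Helper16

open Topology Set AlgebraicGeometry CategoryTheory

universe u

/-- A point of a constructible set has a locally closed neighbourhood inside it (and similarly
for points outside). -/
lemma exists_isOpen_isClosed_of_isConstructible {W : Type*} [TopologicalSpace W] {C : Set W}
    (hC : IsConstructible C) (w : W) :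
    (w ∈ C → ∃ O Z : Set W, IsOpen O ∧ IsClosed Z ∧ w ∈ O ∧ w ∈ Z ∧ O ∩ Z ⊆ C) ∧
    (w ∉ C → ∃ O Z : Set W, IsOpen O ∧ IsClosed Z ∧ w ∈ O ∧ w ∈ Z ∧ O ∩ Z ⊆ Cᶜ) := by
  induction hC using IsConstructible.empty_union_induction with
  | open_retrocompact U hUo hUc =>
    exact ⟨fun h => ⟨U, univ, hUo, isClosed_univ, h, mem_univ _, inter_subset_left⟩,
      fun h => ⟨univ, Uᶜ, isOpen_univ, hUo.isClosed_compl, mem_univ _, h, inter_subset_right⟩⟩
  | union s hs t ht hs' ht' =>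
    constructor
    · rintro (h | h)
      · obtain ⟨O, Z, hO, hZ, hwO, hwZ, hsub⟩ := hs'.1 h
        exact ⟨O, Z, hO, hZ, hwO, hwZ, hsub.trans subset_union_left⟩
      · obtain ⟨O, Z, hO, hZ, hwO, hwZ, hsub⟩ := ht'.1 h
        exact ⟨O, Z, hO, hZ, hwO, hwZ, hsub.trans subset_union_right⟩
    · intro h
      rw [mem_union, not_or] at h
      obtain ⟨O, Z, hO, hZ, hwO, hwZ, hsub⟩ := hs'.2 h.1
      obtain ⟨O', Z', hO', hZ', hwO', hwZ', hsub'⟩ := ht'.2 h.2
      refine ⟨O ∩ O', Z ∩ Z', hO.inter hO', hZ.inter hZ', ⟨hwO, hwO'⟩, ⟨hwZ, hwZ'⟩, ?_⟩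
      rintro y ⟨⟨h1, h2⟩, h3, h4⟩
      rw [compl_union]
      exact ⟨hsub ⟨h1, h3⟩, hsub' ⟨h2, h4⟩⟩
  | compl s hs hs' =>
    refine ⟨fun h => hs'.2 h, fun h => ?_⟩
    rw [compl_compl]
    exact hs'.1 (not_not.mp h)

/-- Necessity: an ind-constructible subset of a scheme meets the closure of each of its points in
a neighbourhood of that point. -/
theorem nhds_closure_of_isIndConstructible {X : Scheme.{u}} {E : Set X}
    (hE : ProCons.IsIndConstructible E) {x : X} (hx : x ∈ E) :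
    (Subtype.val ⁻¹' E : Set ↥(closure ({x} : Set X))) ∈
      nhds (⟨x, subset_closure rfl⟩ : ↥(closure ({x} : Set X))) := by
  obtain ⟨U, hU, hxU⟩ := exists_affine_nhd x
  obtain ⟨_, _, _, _, _⟩ := spectral_of_isAffineOpen hU
  obtain ⟨S', hS', hES'⟩ := exists_sUnion_of_isIndConstructible hE (W := (U : Set X)) U.2
  have : (⟨x, hxU⟩ : (U : Set X)) ∈ ⋃₀ S' := by
    rw [← hES']
    exact hx
  obtain ⟨C, hC, hxC⟩ := this
  obtain ⟨O, Z, hO, hZ, hxO, hxZ, hsub⟩ :=
    (exists_isOpen_isClosed_of_isConstructible (hS' C hC) ⟨x, hxU⟩).1 hxC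
  rw [mem_nhds_subtype]
  refine ⟨Subtype.val '' O, (U.2.isOpenMap_subtype_val _ hO).mem_nhds ⟨⟨x, hxU⟩, hxO, rfl⟩, ?_⟩
  rintro ⟨y, hy⟩ ⟨y', hy'O, hyy'⟩
  obtain rfl : y'.1 = y := hyy'
  have hspec : (⟨x, hxU⟩ : (U : Set X)) ⤳ y' := by
    rw [subtype_specializes_iff]
    exact specializes_iff_mem_closure.mpr hy
  have : y' ∈ (Subtype.val ⁻¹' E : Set (U : Set X)) := by
    rw [hES']
    exact ⟨C, hC, hsub ⟨hy'O, hspec.mem_closed hZ hxZ⟩⟩
  exact this

/-- Sufficiency on a locally Noetherian scheme. -/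
theorem isIndConstructible_of_nhds_closure {X : Scheme.{u}} [IsLocallyNoetherian X] {E : Set X}
    (h : ∀ x ∈ E, (Subtype.val ⁻¹' E : Set ↥(closure ({x} : Set X))) ∈
      nhds (⟨x, subset_closure rfl⟩ : ↥(closure ({x} : Set X)))) :
    ProCons.IsIndConstructible E := by
  intro x₀
  obtain ⟨U, hU, hxU⟩ := exists_affine_nhd x₀
  have : IsNoetherianRing Γ(X, U) := IsLocallyNoetherian.component_noetherian ⟨U, hU⟩
  have hN : TopologicalSpace.NoetherianSpace (U : Set X) := noetherianSpace_of_isAffineOpen U hU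
  refine ⟨U, U.2, hxU, {C | IsConstructible C ∧ C ⊆ Subtype.val ⁻¹' E},
    fun C hC => hC.1.isLocallyConstructible, ?_⟩
  apply subset_antisymm
  · intro u hu
    have := h u.1 hu
    rw [mem_nhds_subtype] at this
    obtain ⟨N, hN', hNE⟩ := this
    obtain ⟨N', hN'N, hN'o, huN'⟩ := mem_nhds_iff.mp hN'
    have hopen : ∀ O : Set (U : Set X), IsOpen O → IsConstructible O := fun O hO =>
      IsRetrocompact.isConstructible hO fun V _ _ => TopologicalSpace.NoetherianSpace.isCompact _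
    refine ⟨Subtype.val ⁻¹' N' ∩ Subtype.val ⁻¹' (closure {u.1}), ⟨?_, ?_⟩, huN', subset_closure rfl⟩
    · refine (hopen _ (hN'o.preimage continuous_subtype_val)).inter ?_
      have hcl : IsClosed (Subtype.val ⁻¹' (closure {u.1}) : Set (U : Set X)) :=
        isClosed_closure.preimage continuous_subtype_val
      have := (hopen _ hcl.isOpen_compl).compl
      rwa [compl_compl] at this
    · rintro y ⟨hy1, hy2⟩
      exact hNE (a := ⟨y.1, hy2⟩) (hN'N hy1)
  · rintro u ⟨C, hC, huC⟩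
    exact hC.2 huC

end Groth.Agent.Lib.Helper16
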