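import Groth.Agent.Lib.Helper16.FibreSurj

/-!
# Fibrewise universal injectivity
-/

namespace Groth.Agent.Lib.Helper16

open CategoryTheory AlgebraicGeometry CategoryTheory.Limits

universe u v

section Cat

variable {C : Type u} [Category.{v} C] [HasPullbacks C]

/-- If `p : X' ⟶ X` is a monomorphism compatible with `f' : X' ⟶ Y'` and `f : X ⟶ Y`, the diagonal
of `f'` is the base change of the diagonal of `f`. -/
theorem isPullback_diagonal_of_mono {X' Y' X Y : C} (f' : X' ⟶ Y') (f : X ⟶ Y) (p : X' ⟶ X)
    (ι : Y' ⟶ Y) (w : f' ≫ ι = p ≫ f) [Mono p] :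
    IsPullback (pullback.diagonal f') p (pullback.map f' f' f f p p ι w w) (pullback.diagonal f) := by
  have hmf : pullback.map f' f' f f p p ι w w ≫ pullback.fst f f = pullback.fst f' f' ≫ p :=
    pullback.lift_fst _ _ _
  have hms : pullback.map f' f' f f p p ι w w ≫ pullback.snd f f = pullback.snd f' f' ≫ p :=
    pullback.lift_snd _ _ _
  refine ⟨⟨by apply pullback.hom_ext <;> simp [hmf, hms]⟩, ⟨PullbackCone.IsLimit.mk _ ?_ ?_ ?_ ?_⟩⟩
  · intro c
    exact c.fst ≫ pullback.fst _ _
  · intro c
    have h1 : c.fst ≫ pullback.fst _ _ ≫ p = c.snd := by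
      have := congrArg (· ≫ pullback.fst f f) c.condition
      simpa [hmf] using this
    have h2 : c.fst ≫ pullback.snd _ _ ≫ p = c.snd := by
      have := congrArg (· ≫ pullback.snd f f) c.condition
      simpa [hms] using this
    apply pullback.hom_ext
    · simp
    · simp only [Category.assoc, pullback.diagonal_snd, Category.comp_id]
      rw [← cancel_mono p, Category.assoc, Category.assoc, h1, h2]
  · intro c
    have := congrArg (· ≫ pullback.fst f f) c.condition
    simpa [hmf] using this
  · intro c m hfst hsnd
    rw [← hfst]
    simp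

end Cat

/-- For a pullback square, surjectivity of the base change is a condition on ranges. -/
theorem surjective_iff_range_subset_of_isPullback {A' B' A B : Scheme.{u}} {h' : A' ⟶ B'}
    {pA : A' ⟶ A} {pB : B' ⟶ B} {h : A ⟶ B} (sq : IsPullback h' pA pB h) :
    Function.Surjective h'.base ↔ Set.range pB.base ⊆ Set.range h.base := by
  constructor
  · rintro hsurj _ ⟨b', rfl⟩
    obtain ⟨a', rfl⟩ := hsurj b'
    refine ⟨pA.base a', ?_⟩
    rw [← Scheme.Hom.comp_apply, ← sq.w]
    rfl
  · intro hsub b'
    obtain ⟨a, ha⟩ := hsub ⟨b', rfl⟩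
    obtain ⟨p, hp1, -⟩ := Scheme.exists_preimage_of_isPullback sq b' a ha.symm
    exact ⟨p, hp1⟩

/-- The map induced on fibres over `s` by `f : X ⟶ Y` over `S` is universally injective iff
the fibre of `X ×[Y] X` over `s` is contained in the image of the diagonal. -/
theorem universallyInjective_fibreMap_iff {X Y S : Scheme.{u}} (f : X ⟶ Y) (g : Y ⟶ S) (s : S) :
    UniversallyInjective (pullback.lift (pullback.fst (f ≫ g) (S.fromSpecResidueField s) ≫ f)
          (pullback.snd (f ≫ g) (S.fromSpecResidueField s))
          ((Category.assoc _ _ _).trans pullback.condition) :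
        pullback (f ≫ g) (S.fromSpecResidueField s) ⟶
          pullback g (S.fromSpecResidueField s)) ↔
      (pullback.fst f f ≫ f ≫ g).base ⁻¹' {s} ⊆ Set.range (pullback.diagonal f).base := by
  have hfst : (pullback.lift (pullback.fst (f ≫ g) (S.fromSpecResidueField s) ≫ f)
          (pullback.snd (f ≫ g) (S.fromSpecResidueField s))
          ((Category.assoc _ _ _).trans pullback.condition) :
        pullback (f ≫ g) (S.fromSpecResidueField s) ⟶
          pullback g (S.fromSpecResidueField s)) ≫ pullback.fst g _ =
      pullback.fst (f ≫ g) _ ≫ f := pullback.lift_fst _ _ _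
  have hsnd : (pullback.lift (pullback.fst (f ≫ g) (S.fromSpecResidueField s) ≫ f)
          (pullback.snd (f ≫ g) (S.fromSpecResidueField s))
          ((Category.assoc _ _ _).trans pullback.condition) :
        pullback (f ≫ g) (S.fromSpecResidueField s) ⟶
          pullback g (S.fromSpecResidueField s)) ≫ pullback.snd g _ =
      pullback.snd (f ≫ g) _ := pullback.lift_snd _ _ _
  generalize (pullback.lift (pullback.fst (f ≫ g) (S.fromSpecResidueField s) ≫ f)
          (pullback.snd (f ≫ g) (S.fromSpecResidueField s))
          ((Category.assoc _ _ _).trans pullback.condition) :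
        pullback (f ≫ g) (S.fromSpecResidueField s) ⟶
          pullback g (S.fromSpecResidueField s)) = fs at hfst hsnd ⊢
  have sq := isPullback_diagonal_of_mono fs f (pullback.fst (f ≫ g) (S.fromSpecResidueField s))
    (pullback.fst g (S.fromSpecResidueField s)) hfst
  rw [UniversallyInjective.iff_diagonal, surjective_iff, surjective_iff_range_subset_of_isPullback sq]
  have hmf : pullback.map fs fs f f (pullback.fst (f ≫ g) (S.fromSpecResidueField s))
      (pullback.fst (f ≫ g) (S.fromSpecResidueField s)) (pullback.fst g (S.fromSpecResidueField s))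
      hfst hfst ≫ pullback.fst f f = pullback.fst fs fs ≫ pullback.fst (f ≫ g) _ :=
    pullback.lift_fst _ _ _
  have hms : pullback.map fs fs f f (pullback.fst (f ≫ g) (S.fromSpecResidueField s))
      (pullback.fst (f ≫ g) (S.fromSpecResidueField s)) (pullback.fst g (S.fromSpecResidueField s))
      hfst hfst ≫ pullback.snd f f = pullback.snd fs fs ≫ pullback.fst (f ≫ g) _ :=
    pullback.lift_snd _ _ _
  have hrange : Set.range (pullback.map fs fs f f (pullback.fst (f ≫ g) (S.fromSpecResidueField s))
      (pullback.fst (f ≫ g) (S.fromSpecResidueField s)) (pullback.fst g (S.fromSpecResidueField s))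
      hfst hfst).base = (pullback.fst f f ≫ f ≫ g).base ⁻¹' {s} := by
    apply subset_antisymm
    · rintro _ ⟨w, rfl⟩
      have e : pullback.map fs fs f f (pullback.fst (f ≫ g) (S.fromSpecResidueField s))
          (pullback.fst (f ≫ g) (S.fromSpecResidueField s))
          (pullback.fst g (S.fromSpecResidueField s)) hfst hfst ≫ pullback.fst f f ≫ f ≫ g =
          (pullback.fst fs fs ≫ pullback.snd (f ≫ g) (S.fromSpecResidueField s)) ≫
            S.fromSpecResidueField s := by
        rw [reassoc_of% hmf, Category.assoc, ← pullback.condition]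
      rw [Set.mem_preimage, ← Scheme.Hom.comp_apply, e, Scheme.Hom.comp_apply]
      have : (S.fromSpecResidueField s).base ((pullback.fst fs fs ≫
          pullback.snd (f ≫ g) (S.fromSpecResidueField s)).base w) ∈
          Set.range (S.fromSpecResidueField s).base := ⟨_, rfl⟩
      rwa [Scheme.range_fromSpecResidueField] at this
    · intro z hz
      rw [← (pullback.fst f f ≫ f ≫ g).range_fiberι s] at hz
      obtain ⟨z', rfl⟩ := hz
      have c1 : (pullback.fst (pullback.fst f f ≫ f ≫ g) (S.fromSpecResidueField s) ≫
          pullback.fst f f) ≫ f ≫ g = pullback.snd _ _ ≫ S.fromSpecResidueField s := by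
        rw [Category.assoc]; exact pullback.condition
      have c2 : (pullback.fst (pullback.fst f f ≫ f ≫ g) (S.fromSpecResidueField s) ≫
          pullback.snd f f) ≫ f ≫ g = pullback.snd _ _ ≫ S.fromSpecResidueField s := by
        rw [Category.assoc, ← pullback.condition_assoc]; exact pullback.condition
      have c3 : pullback.lift _ _ c1 ≫ fs = pullback.lift _ _ c2 ≫ fs := by
        apply pullback.hom_ext
        · rw [Category.assoc, Category.assoc, hfst, pullback.lift_fst_assoc,
            pullback.lift_fst_assoc, Category.assoc, Category.assoc, pullback.condition]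
        · rw [Category.assoc, Category.assoc, hsnd, pullback.lift_snd, pullback.lift_snd]
      have c4 : pullback.lift _ _ c3 ≫ pullback.map fs fs f f
          (pullback.fst (f ≫ g) (S.fromSpecResidueField s))
          (pullback.fst (f ≫ g) (S.fromSpecResidueField s))
          (pullback.fst g (S.fromSpecResidueField s)) hfst hfst =
          pullback.fst (pullback.fst f f ≫ f ≫ g) (S.fromSpecResidueField s) := by
        apply pullback.hom_ext
        · rw [Category.assoc, hmf, pullback.lift_fst_assoc, pullback.lift_fst]
        · rw [Category.assoc, hms, pullback.lift_snd_assoc, pullback.lift_fst]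
      refine ⟨(pullback.lift _ _ c3).base z', ?_⟩
      exact (Scheme.Hom.comp_apply _ _ _).symm.trans (by rw [c4]; rfl)
  rw [hrange]

end Groth.Agent.Lib.Helper16
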