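import Mathlib.RingTheory.Spectrum.Prime.ConstructibleSet
import Mathlib.RingTheory.LocalRing.ResidueField.Ideal
import Mathlib.RingTheory.Spectrum.Prime.RingHom
import Mathlib.AlgebraicGeometry.Limits
import Groth.Agent.Lib.Helper16.ProConsMore

/-!
# Pro-constructible subsets as images of affine schemes (helper16)
-/

namespace Groth.Agent.Lib.Helper16

open Topology Set AlgebraicGeometry CategoryTheory

universe u

/-- The product of the residue fields at the points of `P`. -/
abbrev ProdRes {R : Type u} [CommRing R] (P : Set (PrimeSpectrum R)) : Type u :=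
  ∀ p : P, p.1.asIdeal.ResidueField

/-- A subset of `Spec R` that can be separated from each outside point by a constructible set is
the image of the spectrum of a product of residue fields. -/
theorem exists_ringHom_range_comap_eq {R : Type u} [CommRing R] (P : Set (PrimeSpectrum R))
    (hP : ∀ q ∉ P, ∃ C : Set (PrimeSpectrum R), IsConstructible C ∧ q ∈ C ∧ Disjoint C P) :
    ∃ (T : Type u) (_ : CommRing T) (φ : R →+* T), Set.range (PrimeSpectrum.comap φ) = P := by
  classical
  let φ : R →+* ProdRes P := RingHom.pi fun p => algebraMap R p.1.asIdeal.ResidueField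
  refine ⟨ProdRes P, inferInstance, φ, ?_⟩
  apply subset_antisymm
  · rintro _ ⟨𝔮, rfl⟩
    by_contra hq
    obtain ⟨C, hC, hqC, hdisj⟩ := hP _ hq
    obtain ⟨S, rfl⟩ := PrimeSpectrum.exists_constructibleSetData_iff.mpr hC
    simp only [PrimeSpectrum.ConstructibleSetData.toSet, mem_iUnion] at hqC
    obtain ⟨B, hBS, hqB⟩ := hqC
    have hBP : ∀ p ∈ P, p ∉ B.toSet := fun p hp hpB =>
      (Set.disjoint_left.mp hdisj) (mem_iUnion₂.mpr ⟨B, hBS, hpB⟩) hp
    simp only [PrimeSpectrum.BasicConstructibleSetData.toSet, mem_sdiff,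
      PrimeSpectrum.mem_zeroLocus, Set.range_subset_iff, Set.singleton_subset_iff,
      SetLike.mem_coe] at hqB hBP
    obtain ⟨hg, hf⟩ := hqB
    -- the element
    let s : Fin B.n → ProdRes P := fun i p => (algebraMap R p.1.asIdeal.ResidueField (B.g i))⁻¹
    have ha : φ B.f * ∏ i, (1 - φ (B.g i) * s i) = 0 := by
      funext p
      simp only [Pi.mul_apply, Finset.prod_apply, Pi.sub_apply, Pi.one_apply, Pi.zero_apply]
      by_cases hall : ∀ i, B.g i ∈ p.1.asIdeal
      · have : B.f ∈ p.1.asIdeal := by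
          by_contra hfp
          exact hBP p.1 p.2 ⟨hall, hfp⟩
        have h0 : φ B.f p = 0 := Ideal.algebraMap_residueField_eq_zero.mpr this
        rw [h0, zero_mul]
      · push Not at hall
        obtain ⟨i, hi⟩ := hall
        have hne : algebraMap R p.1.asIdeal.ResidueField (B.g i) ≠ 0 := fun h0 =>
          hi (Ideal.algebraMap_residueField_eq_zero.mp h0)
        have : (1 : p.1.asIdeal.ResidueField) - φ (B.g i) p * s i p = 0 := by
          change 1 - algebraMap R p.1.asIdeal.ResidueField (B.g i) *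
            (algebraMap R p.1.asIdeal.ResidueField (B.g i))⁻¹ = 0
          rw [mul_inv_cancel₀ hne, sub_self]
        rw [Finset.prod_eq_zero (Finset.mem_univ i) this, mul_zero]
    have hmem : φ B.f * ∏ i, (1 - φ (B.g i) * s i) ∈ 𝔮.asIdeal := by
      rw [ha]
      exact zero_mem _
    rcases 𝔮.2.mem_or_mem hmem with h1 | h1
    · exact hf h1
    · rw [Ideal.IsPrime.prod_mem_iff] at h1
      obtain ⟨i, -, hi⟩ := h1
      have h2 : φ (B.g i) * s i ∈ 𝔮.asIdeal := Ideal.mul_mem_right _ _ (hg i)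
      have : (1 : ProdRes P) ∈ 𝔮.asIdeal := by
        have := add_mem hi h2
        rwa [sub_add_cancel] at this
      exact 𝔮.2.ne_top ((Ideal.eq_top_iff_one _).mpr this)
  · intro p hp
    refine ⟨PrimeSpectrum.comap (Pi.evalRingHom _ (⟨p, hp⟩ : P)) ⟨⊥, Ideal.isPrime_bot⟩, ?_⟩
    apply PrimeSpectrum.ext
    ext x
    change algebraMap R p.asIdeal.ResidueField x ∈ (⊥ : Ideal _) ↔ _
    rw [Ideal.mem_bot, Ideal.algebraMap_residueField_eq_zero]

/-- Local step: on an affine open `U`, `E ∩ U` is the image of an affine scheme. -/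
theorem exists_spec_range_eq_inter {X : Scheme.{u}} {E : Set X}
    (hE : ProCons.IsProConstructible E) {U : X.Opens} (hU : IsAffineOpen U) :
    ∃ (T : CommRingCat.{u}) (g : Spec T ⟶ X), Set.range g.base = E ∩ U := by
  let j : Spec Γ(X, U) ⟶ X := hU.fromSpec
  have hP : ProCons.IsProConstructible (j.base ⁻¹' E) := isProConstructible_preimage j hE
  have hsep : ∀ q : Spec Γ(X, U), q ∉ j.base ⁻¹' E →
      ∃ C : Set (Spec Γ(X, U)), IsConstructible C ∧ q ∈ C ∧ Disjoint C (j.base ⁻¹' E) := by
    intro q hq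
    have htop : IsAffineOpen (⊤ : (Spec Γ(X, U)).Opens) := isAffineOpen_top _
    obtain ⟨_, _, _, _, _⟩ := spectral_of_isAffineOpen htop
    obtain ⟨S, hS, hES⟩ := exists_sInter_of_isProConstructible hP
      (W := ((⊤ : (Spec Γ(X, U)).Opens) : Set (Spec Γ(X, U)))) (⊤ : (Spec Γ(X, U)).Opens).2
    have hq' : (⟨q, trivial⟩ : ((⊤ : (Spec Γ(X, U)).Opens) : Set (Spec Γ(X, U)))) ∉ ⋂₀ S := by
      rw [← hES]
      exact hq
    simp only [mem_sInter, not_forall] at hq'
    obtain ⟨C₀, hC₀, hqC₀⟩ := hq'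
    refine ⟨Subtype.val '' C₀ᶜ, ?_, ⟨⟨q, trivial⟩, hqC₀, rfl⟩, ?_⟩
    · refine (hS C₀ hC₀).compl.image_of_isOpenEmbedding
        (⊤ : (Spec Γ(X, U)).Opens).2.isOpenEmbedding_subtypeVal ?_
      have : Set.range (Subtype.val :
          ((⊤ : (Spec Γ(X, U)).Opens) : Set (Spec Γ(X, U))) → Spec Γ(X, U)) = Set.univ := by
        rw [Subtype.range_coe]
        rfl
      rw [this]
      exact IsRetrocompact.univ
    · rw [Set.disjoint_left]
      rintro _ ⟨y, hy, rfl⟩ hyP
      apply hy
      have : y ∈ ⋂₀ S := by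
        rw [← hES]
        exact hyP
      exact this C₀ hC₀
  obtain ⟨T, _, φ, hφ⟩ := exists_ringHom_range_comap_eq (R := Γ(X, U)) (j.base ⁻¹' E) hsep
  refine ⟨CommRingCat.of T, Spec.map (CommRingCat.ofHom φ) ≫ j, ?_⟩
  have h1 : Set.range (Spec.map (CommRingCat.ofHom φ) ≫ j).base = j.base '' (j.base ⁻¹' E) := by
    ext x
    constructor
    · rintro ⟨y, rfl⟩
      refine ⟨(Spec.map (CommRingCat.ofHom φ)).base y, ?_, rfl⟩
      have : PrimeSpectrum.comap φ y ∈ Set.range (PrimeSpectrum.comap φ) := ⟨y, rfl⟩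
      rw [hφ] at this
      exact this
    · rintro ⟨z, hz, rfl⟩
      have : z ∈ Set.range (PrimeSpectrum.comap φ) := by
        rw [hφ]
        exact hz
      obtain ⟨y, rfl⟩ := this
      exact ⟨y, rfl⟩
  rw [h1, Set.image_preimage_eq_inter_range]
  congr 1
  exact hU.range_fromSpec

/-- A pro-constructible subset of a quasi-compact scheme is the image of an affine scheme. -/
theorem exists_affine_range_eq {X : Scheme.{u}} [CompactSpace X] {E : Set X}
    (hE : ProCons.IsProConstructible E) :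
    ∃ (X' : Scheme.{u}) (f : X' ⟶ X), IsAffine X' ∧ Set.range f.base = E := by
  classical
  obtain ⟨s, hs, hcov⟩ := (isCompact_and_isOpen_iff_finite_and_eq_biUnion_affineOpens
    (X := X) (U := Set.univ)).mp ⟨isCompact_univ, isOpen_univ⟩
  have : Finite s := hs.to_subtype
  choose T g hg using fun k : s => exists_spec_range_eq_inter hE k.1.2
  refine ⟨∐ fun k : s => Spec (T k), Limits.Sigma.desc g, inferInstance, ?_⟩
  apply subset_antisymm
  · rintro _ ⟨x', rfl⟩
    obtain ⟨⟨k, y⟩, rfl⟩ := (sigmaMk fun k : s => Spec (T k)).surjective x'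
    rw [sigmaMk_mk]
    have : (Limits.Sigma.desc g).base (Limits.Sigma.ι (fun k : s => Spec (T k)) k y) =
        (g k).base y := by
      rw [← Scheme.Hom.comp_apply, Limits.Sigma.ι_desc]
    rw [this]
    have h2 : (g k).base y ∈ Set.range (g k).base := ⟨y, rfl⟩
    rw [hg k] at h2
    exact h2.1
  · intro e he
    have heu : e ∈ (Set.univ : Set X) := mem_univ e
    rw [hcov] at heu
    simp only [mem_iUnion] at heu
    obtain ⟨W, hWs, heW⟩ := heu
    have h2 : e ∈ Set.range (g ⟨W, hWs⟩).base := by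
      rw [hg]
      exact ⟨he, heW⟩
    obtain ⟨y, rfl⟩ := h2
    refine ⟨Limits.Sigma.ι (fun k : s => Spec (T k)) ⟨W, hWs⟩ y, ?_⟩
    rw [← Scheme.Hom.comp_apply, Limits.Sigma.ι_desc]

end Groth.Agent.Lib.Helper16
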