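import Mathlib

/-!
# Fibrewise surjectivity
-/

namespace Groth.Agent.Lib.Helper16

open CategoryTheory AlgebraicGeometry CategoryTheory.Limits

universe u

theorem isZariskiLocalAtTarget_lfp : IsZariskiLocalAtTarget @LocallyOfFinitePresentation.{u} :=
  HasRingHomProperty.instIsZariskiLocalAtTarget (P := @LocallyOfFinitePresentation.{u})

theorem isZariskiLocalAtSource_lfp : IsZariskiLocalAtSource @LocallyOfFinitePresentation.{u} :=
  HasRingHomProperty.instIsZariskiLocalAtSource (P := @LocallyOfFinitePresentation.{u})

attribute [local instance] isZariskiLocalAtTarget_lfp isZariskiLocalAtSource_lfp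

theorem locallyOfFinitePresentation_of_comp {X Y Z : Scheme.{u}} (f : X ⟶ Y) (g : Y ⟶ Z)
    (h : LocallyOfFinitePresentation (f ≫ g)) (hg : LocallyOfFiniteType g) :
    LocallyOfFinitePresentation f := by
  wlog hZ : IsAffine Z generalizing X Y Z
  · rw [IsZariskiLocalAtTarget.iff_of_iSup_eq_top (P := @LocallyOfFinitePresentation.{u}) _
      (g.iSup_preimage_eq_top (iSup_affineOpens_eq_top Z))]
    intro U
    have H := IsZariskiLocalAtTarget.restrict h U.1
    rw [morphismRestrict_comp] at H
    exact this _ _ H inferInstance inferInstance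
  wlog hY : IsAffine Y generalizing X Y
  · rw [IsZariskiLocalAtTarget.iff_of_iSup_eq_top (P := @LocallyOfFinitePresentation.{u}) _
      (iSup_affineOpens_eq_top Y)]
    intro U
    have H := HasRingHomProperty.comp_of_isOpenImmersion @LocallyOfFinitePresentation
      (f ⁻¹ᵁ U.1).ι (f ≫ g) h
    rw [← morphismRestrict_ι_assoc] at H
    exact this (f ∣_ U.1) (U.1.ι ≫ g) H inferInstance inferInstance
  wlog hX : IsAffine X generalizing X
  · rw [IsZariskiLocalAtSource.iff_of_iSup_eq_top (P := @LocallyOfFinitePresentation.{u}) _
      (iSup_affineOpens_eq_top X)]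
    intro U
    have H := HasRingHomProperty.comp_of_isOpenImmersion @LocallyOfFinitePresentation
      U.1.ι (f ≫ g) h
    rw [← Category.assoc] at H
    exact this (U.1.ι ≫ f) H inferInstance
  rw [HasRingHomProperty.iff_of_isAffine (P := @LocallyOfFinitePresentation.{u})] at h ⊢
  rw [HasRingHomProperty.iff_of_isAffine (P := @LocallyOfFiniteType.{u})] at hg
  refine RingHom.FinitePresentation.of_comp_finiteType (g.appTop.hom) ?_ hg
  have e : (f ≫ g).appTop.hom = f.appTop.hom.comp g.appTop.hom := by
    rw [Scheme.Hom.comp_appTop]; rfl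
  rwa [← e]

/-- The map induced on fibres over `s` by `f : X ⟶ Y` over `S` is surjective iff the fibre of
`Y` over `s` is contained in the image of `f`. -/
theorem surjective_fibreMap_iff {X Y S : Scheme.{u}} (f : X ⟶ Y) (g : Y ⟶ S) (s : S) :
    Function.Surjective (pullback.lift (pullback.fst (f ≫ g) (S.fromSpecResidueField s) ≫ f)
          (pullback.snd (f ≫ g) (S.fromSpecResidueField s))
          ((Category.assoc _ _ _).trans pullback.condition) :
        pullback (f ≫ g) (S.fromSpecResidueField s) ⟶
          pullback g (S.fromSpecResidueField s)).base ↔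
      g.base ⁻¹' {s} ⊆ Set.range f.base := by
  have hfst : (pullback.lift (pullback.fst (f ≫ g) (S.fromSpecResidueField s) ≫ f)
          (pullback.snd (f ≫ g) (S.fromSpecResidueField s))
          ((Category.assoc _ _ _).trans pullback.condition) :
        pullback (f ≫ g) (S.fromSpecResidueField s) ⟶
          pullback g (S.fromSpecResidueField s)) ≫ pullback.fst g _ =
      pullback.fst (f ≫ g) _ ≫ f := pullback.lift_fst _ _ _
  have hsnd : (pullback.lift (pullback.fst (f ≫ g) (S.fromSpecResidueField s) ≫ f)
          (pullback.snd (f ≫ g) (S.fromSpecResidueField s))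
          ((Category.assoc _ _ _).trans pullback.condition) :
        pullback (f ≫ g) (S.fromSpecResidueField s) ⟶
          pullback g (S.fromSpecResidueField s)) ≫ pullback.snd g _ =
      pullback.snd (f ≫ g) _ := pullback.lift_snd _ _ _
  generalize (pullback.lift (pullback.fst (f ≫ g) (S.fromSpecResidueField s) ≫ f)
          (pullback.snd (f ≫ g) (S.fromSpecResidueField s))
          ((Category.assoc _ _ _).trans pullback.condition) :
        pullback (f ≫ g) (S.fromSpecResidueField s) ⟶
          pullback g (S.fromSpecResidueField s)) = fs at hfst hsnd ⊢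
  have hpb : IsPullback fs (pullback.fst (f ≫ g) (S.fromSpecResidueField s))
      (pullback.fst g (S.fromSpecResidueField s)) f := by
    refine IsPullback.of_right ?_ hfst (IsPullback.of_hasPullback g _).flip
    rw [hsnd]
    exact (IsPullback.of_hasPullback (f ≫ g) _).flip
  have hrange : Set.range (pullback.fst g (S.fromSpecResidueField s)).base = g.base ⁻¹' {s} :=
    g.range_fiberι s
  constructor
  · intro hsurj y hy
    rw [← hrange] at hy
    obtain ⟨y', rfl⟩ := hy
    obtain ⟨x', rfl⟩ := hsurj y'
    refine ⟨(pullback.fst (f ≫ g) _).base x', ?_⟩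
    rw [← Scheme.Hom.comp_apply, ← hfst]
    rfl
  · intro hsub y'
    have hy : (pullback.fst g (S.fromSpecResidueField s)).base y' ∈ g.base ⁻¹' {s} := by
      rw [← hrange]; exact ⟨y', rfl⟩
    obtain ⟨x, hx⟩ := hsub hy
    obtain ⟨p, hp1, -⟩ := Scheme.exists_preimage_of_isPullback hpb y' x hx.symm
    exact ⟨p, hp1⟩

end Groth.Agent.Lib.Helper16
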