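import Groth.Agent.Lib.Helper16.ARML

/-!
# Uniform Mittag-Leffler iff AR-isomorphic to a strict system (helper16)
-/

set_option autoImplicit false
universe v u

namespace Groth.Agent.Lib.Helper16

namespace ARML

open CategoryTheory CategoryTheory.Limits Opposite ARSys

variable {C : Type u} [Category.{v} C] [Abelian C]

lemma imageSubobject_epi_comp {X Y Z : C} (p : X ⟶ Y) [Epi p] (f : Y ⟶ Z) :
    imageSubobject (p ≫ f) = imageSubobject f := by
  have h1 : p ≫ f = (p ≫ factorThruImage f) ≫ image.ι f := by
    rw [Category.assoc, image.fac]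
  have h2 := imageSubobject_eq_of_epi_mono (p ≫ factorThruImage f) (image.ι f)
  have h3 : imageSubobject (p ≫ f) = imageSubobject ((p ≫ factorThruImage f) ≫ image.ι f) := by
    congr 1
  rw [h3, h2, imageSubobject_mono]

lemma epi_of_imageSubobject_comp_eq {A I Y : C} (a : A ⟶ I) (m : I ⟶ Y) [Mono m]
    (h : imageSubobject (a ≫ m) = imageSubobject m) : Epi a := by
  have h1 : a ≫ m = factorThruImage a ≫ (image.ι a ≫ m) := by
    rw [← Category.assoc, image.fac]
  have h2 := imageSubobject_eq_of_epi_mono (factorThruImage a) (image.ι a ≫ m)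
  have h3 : imageSubobject (a ≫ m) = imageSubobject (factorThruImage a ≫ (image.ι a ≫ m)) := by
    congr 1
  rw [h3, h2, imageSubobject_mono, imageSubobject_mono] at h
  have hiso : IsIso (image.ι a) := by
    have he : (Subobject.isoOfMkEqMk _ _ h).hom ≫ m = image.ι a ≫ m := by
      rw [Subobject.isoOfMkEqMk_hom, Subobject.ofMkLEMk_comp]
    have : (Subobject.isoOfMkEqMk _ _ h).hom = image.ι a := (cancel_mono m).mp he
    rw [← this]
    infer_instance
  rw [← image.fac a]
  infer_instance

lemma imageSubobject_le_of_comp_eq_zero {A : C} (S : ShortComplex C) (hex : S.Exact)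
    (k : A ⟶ S.X₂) (hk : k ≫ S.g = 0) :
    imageSubobject k ≤ imageSubobject S.f := by
  rw [(ShortComplex.exact_iff_image_eq_kernel S).mp hex]
  apply le_kernelSubobject
  rw [← cancel_epi (factorThruImageSubobject k), ← Category.assoc, imageSubobject_arrow_comp, hk,
    comp_zero]

lemma imageSubobject_image_ι_app (X : PS C) (r n : ℕ) :
    imageSubobject ((image.ι (sigma X r)).app (op n)) = imageSubobject (shiftMap X r n) := by
  have e : shiftMap X r n = (factorThruImage (sigma X r)).app (op n) ≫
      (image.ι (sigma X r)).app (op n) := by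
    rw [← NatTrans.comp_app, image.fac, sigma_app]
  have := imageSubobject_eq_of_epi_mono ((factorThruImage (sigma X r)).app (op n))
      ((image.ι (sigma X r)).app (op n))
  rw [← this]
  congr 1
  exact e.symm

lemma isStrict_of_succ (Y : PS C) (h : ∀ n : ℕ, Epi (tr Y (Nat.le_succ n))) : IsStrict Y := by
  intro n m hnm
  induction m, hnm using Nat.le_induction with
  | base =>
    have : tr Y (le_refl n) = 𝟙 _ := by
      change Y.map _ = _
      rw [← Y.map_id]
      congr 1
    rw [this]
    infer_instance
  | succ m hnm ih =>
    have : tr Y (hnm.trans (Nat.le_succ m)) = tr Y (Nat.le_succ m) ≫ tr Y hnm :=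
      (congrArg Y.map (Subsingleton.elim _ _)).trans (Y.map_comp _ _)
    rw [this]
    haveI := h m
    haveI := ih
    exact epi_comp _ _

lemma isARNull_of_isZero (K : PS C) (hK : IsZero K) : IsARNull K :=
  ⟨0, fun n => ((Functor.isZero_iff K).mp hK (op n)).eq_of_tgt _ _⟩

theorem isMLAR_iff_strict (X : PS C) :
    IsMLAR X ↔ ∃ (Y : PS C) (u : Y ⟶ X), IsStrict Y ∧ IsARIso u := by
  constructor
  · intro hX
    obtain ⟨r, hr⟩ := hX
    refine ⟨image (sigma X r), image.ι (sigma X r), ?_, ?_, ?_⟩
    · apply isStrict_of_succ
      intro n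
      have nat := (factorThruImage (sigma X r)).naturality (homOfLE (Nat.le_succ n)).op
      have hepi : Epi (((shift C r).obj X).map (homOfLE (Nat.le_succ n)).op ≫
          (factorThruImage (sigma X r)).app (op n)) := by
        apply epi_of_imageSubobject_comp_eq _ ((image.ι (sigma X r)).app (op n))
        apply le_antisymm (imageSubobject_comp_le _ _)
        have hle : n ≤ n + 1 + r := by omega
        have h1 : (((shift C r).obj X).map (homOfLE (Nat.le_succ n)).op ≫
            (factorThruImage (sigma X r)).app (op n)) ≫ (image.ι (sigma X r)).app (op n) =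
            X.map (homOfLE hle).op := by
          rw [Category.assoc, ← NatTrans.comp_app, image.fac]
          exact (X.map_comp _ _).symm.trans (congrArg X.map (Subsingleton.elim _ _))
        have hle' : n + 1 + r ≤ n + (r + 1) := by omega
        have h2 : shiftMap X (r + 1) n = X.map (homOfLE hle').op ≫ X.map (homOfLE hle).op :=
          (congrArg X.map (Subsingleton.elim _ _)).trans (X.map_comp _ _)
        rw [imageSubobject_image_ι_app, ← hr (r + 1) (Nat.le_succ r) n, h1]
        exact imageSubobject_le_of_fac _ _ _ h2
      rw [nat] at hepi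
      exact epi_of_epi ((factorThruImage (sigma X r)).app (op (n + 1))) _
    · exact isARNull_of_isZero _ (isZero_kernel_of_mono _)
    · refine ⟨r, fun n => ?_⟩
      refine shiftMap_eq_zero_of_comp (cokernel.π (image.ι (sigma X r))) r n ?_
      have e : shiftMap X r n = (factorThruImage (sigma X r)).app (op n) ≫
          (image.ι (sigma X r)).app (op n) := by
        rw [← NatTrans.comp_app, image.fac, sigma_app]
      rw [e, Category.assoc, ← NatTrans.comp_app, cokernel.condition]
      simp
  · rintro ⟨Y, u, hY, -, r₂, hr₂⟩
    have key : ∀ s : ℕ, r₂ ≤ s → ∀ n : ℕ,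
        imageSubobject (shiftMap X s n) = imageSubobject (u.app (op n)) := by
      intro s hs n
      apply le_antisymm
      · refine (imageSubobject_shiftMap_le X n hs).trans ?_
        let S : ShortComplex (PS C) := ShortComplex.mk u (cokernel.π u) (cokernel.condition u)
        have hS : S.Exact := ShortComplex.exact_cokernel u
        have hS' := hS.map ((evaluation ℕᵒᵖ C).obj (op n))
        exact imageSubobject_le_of_comp_eq_zero _ hS' (shiftMap X r₂ n)
          (shiftMap_comp_eq_zero (cokernel.π u) r₂ n (hr₂ n))
      · haveI : Epi (tr Y (Nat.le_add_right n s)) := hY _ _ _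
        have nat : tr Y (Nat.le_add_right n s) ≫ u.app (op n) =
            u.app (op (n + s)) ≫ shiftMap X s n :=
          (u.naturality (homOfLE (Nat.le_add_right n s)).op)
        rw [← imageSubobject_epi_comp (tr Y (Nat.le_add_right n s)) (u.app (op n))]
        exact imageSubobject_le_of_fac _ _ _ nat
    exact ⟨r₂, fun s hs n => (key s hs n).trans (key r₂ le_rfl n).symm⟩

end ARML

end Groth.Agent.Lib.Helper16
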