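import Groth.Prelude.Def_ARSys
import Mathlib

/-!
# Uniform Mittag-Leffler and universal images (helper16)
-/

set_option autoImplicit false
universe v u

namespace Groth.Agent.Lib.Helper16

namespace ARML

open CategoryTheory CategoryTheory.Limits Opposite ARSys

variable {C : Type u} [Category.{v} C]

/-- the canonical map `X[r] ⟶ X` -/
def sigma (X : PS C) (r : ℕ) : (shift C r).obj X ⟶ X where
  app n := X.map (homOfLE (Nat.le_add_right n.unop r)).op
  naturality := fun n m f =>
    (X.map_comp _ _).symm.trans ((congrArg X.map (Subsingleton.elim _ _)).trans (X.map_comp _ _))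

lemma sigma_app (X : PS C) (r n : ℕ) : (sigma X r).app (op n) = shiftMap X r n := rfl

lemma shiftMap_eq_comp (X : PS C) (n : ℕ) {s s' : ℕ} (h : s ≤ s') :
    shiftMap X s' n = X.map (homOfLE (Nat.add_le_add_left h n)).op ≫ shiftMap X s n :=
  (congrArg X.map (Subsingleton.elim _ _)).trans (X.map_comp _ _)

variable [Abelian C]

lemma imageSubobject_eq_of_epi_mono {X I Y : C} (e : X ⟶ I) (m : I ⟶ Y) [Epi e] [Mono m] :
    imageSubobject (e ≫ m) = imageSubobject m := by
  rw [imageSubobject_mono m]
  haveI := strongEpi_of_epi e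
  exact Subobject.mk_eq_mk_of_comm _ _ (image.isoStrongEpiMono e m rfl).symm (by simp)

lemma imageSubobject_le_of_fac {A B D : C} (f : A ⟶ D) (g : A ⟶ B) (h : B ⟶ D)
    (e : f = g ≫ h) : imageSubobject f ≤ imageSubobject h := by
  subst e
  exact imageSubobject_comp_le _ _

lemma imageSubobject_shiftMap_le (X : PS C) (n : ℕ) {s s' : ℕ} (h : s ≤ s') :
    imageSubobject (shiftMap X s' n) ≤ imageSubobject (shiftMap X s n) :=
  imageSubobject_le_of_fac _ _ _ (shiftMap_eq_comp X n h)

lemma pi_shiftMap {X Y : PS C} (π : X ⟶ Y) (r n : ℕ) :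
    shiftMap X r n ≫ π.app (op n) = π.app (op (n + r)) ≫ shiftMap Y r n :=
  π.naturality (homOfLE (Nat.le_add_right n r)).op

lemma shiftMap_eq_zero_of_comp {X Y : PS C} (π : X ⟶ Y) (r n : ℕ)
    [Epi (π.app (op (n + r)))] (h : shiftMap X r n ≫ π.app (op n) = 0) : shiftMap Y r n = 0 :=
  (cancel_epi (π.app (op (n + r)))).mp ((pi_shiftMap π r n).symm.trans (h.trans comp_zero.symm))

lemma shiftMap_comp_eq_zero {X Y : PS C} (π : X ⟶ Y) (r n : ℕ)
    (h : shiftMap Y r n = 0) : shiftMap X r n ≫ π.app (op n) = 0 :=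
  (pi_shiftMap π r n).trans ((congrArg (π.app (op (n + r)) ≫ ·) h).trans comp_zero)

theorem isMLAR_iff (X : PS C) :
    IsMLAR X ↔ (IsML X ∧ ∃ (X' : PS C) (ι : X' ⟶ X), Mono ι ∧
      (∀ n : ℕ, ∃ r₀ : ℕ, ∀ r : ℕ, r₀ ≤ r →
        imageSubobject (ι.app (op n)) = imageSubobject (shiftMap X r n)) ∧
      IsARNull (cokernel ι)) := by
  constructor
  · rintro ⟨r, hr⟩
    refine ⟨fun n => ⟨r, fun s hs => hr s hs n⟩, image (sigma X r), image.ι (sigma X r),
      inferInstance, fun n => ⟨r, fun r' hr' => ?_⟩, r, fun n => ?_⟩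
    · refine Eq.trans ?_ (hr r' hr' n).symm
      have e : shiftMap X r n = (factorThruImage (sigma X r)).app (op n) ≫
          (image.ι (sigma X r)).app (op n) := by
        rw [← NatTrans.comp_app, image.fac, sigma_app]
      have := imageSubobject_eq_of_epi_mono ((factorThruImage (sigma X r)).app (op n))
          ((image.ι (sigma X r)).app (op n))
      rw [← this]
      congr 1
      exact e.symm
    · refine shiftMap_eq_zero_of_comp (cokernel.π (image.ι (sigma X r))) r n ?_
      have e : shiftMap X r n = (factorThruImage (sigma X r)).app (op n) ≫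
          (image.ι (sigma X r)).app (op n) := by
        rw [← NatTrans.comp_app, image.fac, sigma_app]
      rw [e, Category.assoc, ← NatTrans.comp_app, cokernel.condition]
      simp
  · rintro ⟨-, X', ι, hmono, himg, r₁, hr₁⟩
    refine ⟨r₁, fun s hs n => le_antisymm (imageSubobject_shiftMap_le X n hs) ?_⟩
    obtain ⟨r₀, hr₀⟩ := himg n
    have h1 : imageSubobject (ι.app (op n)) ≤ imageSubobject (shiftMap X s n) :=
      (hr₀ (max s r₀) (le_max_right _ _)).le.trans
        (imageSubobject_shiftMap_le X n (le_max_left _ _))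
    refine le_trans ?_ h1
    have hk : shiftMap X r₁ n ≫ (cokernel.π ι).app (op n) = 0 :=
      shiftMap_comp_eq_zero (cokernel.π ι) r₁ n (hr₁ n)
    let S : ShortComplex (PS C) := ShortComplex.mk ι (cokernel.π ι) (cokernel.condition ι)
    have hS : S.Exact := ShortComplex.exact_cokernel ι
    have hS' := hS.map ((evaluation ℕᵒᵖ C).obj (op n))
    haveI : Mono (S.map ((evaluation ℕᵒᵖ C).obj (op n))).f :=
      inferInstanceAs (Mono (ι.app (op n)))
    have hl := hS'.lift_f (shiftMap X r₁ n) hk
    exact imageSubobject_le_of_fac _ _ _ hl.symm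

end ARML

end Groth.Agent.Lib.Helper16
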