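import Groth.Agent.Lib.Helper16.LambdaSplit

/-!
Helper lemmas (helper16): Adams operations are ring homomorphisms and compose multiplicatively,
under the splitting property.
-/

set_option autoImplicit false
universe u

open PowerSeries Finset

namespace Groth.Agent.Lib.Helper16

open LambdaRing

variable {K : Type u} [CommRing K] [LambdaRing.LambdaOps K]

theorem adams_zero_elt (P : PosStructure K) (j : ℕ) : adams P j 0 = 0 := by
  rw [← adamsHom_apply, map_zero]

theorem adams_neg (P : PosStructure K) (j : ℕ) (x : K) : adams P j (-x) = -adams P j x := by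
  rw [← adamsHom_apply, map_neg, adamsHom_apply]

theorem adams_sub (P : PosStructure K) (j : ℕ) (x y : K) :
    adams P j (x - y) = adams P j x - adams P j y := by
  rw [← adamsHom_apply, map_sub, adamsHom_apply, adamsHom_apply]

theorem adams_one_elt (P : PosStructure K) (j : ℕ) : adams P j 1 = 1 := by
  rw [adams_line P (isLine_one P), one_pow]

theorem adams_line_mul_sum (P : PosStructure K) (j : ℕ) {u : K} (hu : P.IsLine u)
    (t : Multiset K) (ht : ∀ v ∈ t, P.IsLine v) :
    adams P j (u * t.sum) = u ^ j * adams P j t.sum := by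
  have h1 : u * t.sum = (t.map (fun v => u * v)).sum := by
    rw [Multiset.sum_map_mul_left, Multiset.map_id']
  have hl : ∀ w ∈ t.map (fun v => u * v), P.IsLine w := by
    intro w hw
    obtain ⟨v, hv, rfl⟩ := Multiset.mem_map.mp hw
    exact isLine_mul P hu (ht v hv)
  rw [h1, adams_sum_lines P j _ hl, adams_sum_lines P j t ht, Multiset.map_map,
    ← Multiset.sum_map_mul_left]
  congr 1
  apply Multiset.map_congr rfl
  intro v _
  simp [mul_pow]

theorem adams_sum_mul_sum (P : PosStructure K) (j : ℕ) (s t : Multiset K)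
    (hs : ∀ v ∈ s, P.IsLine v) (ht : ∀ v ∈ t, P.IsLine v) :
    adams P j (s.sum * t.sum) = adams P j s.sum * adams P j t.sum := by
  induction s using Multiset.induction_on with
  | empty => simp [adams_zero_elt]
  | cons u s' ih =>
    have hu : P.IsLine u := hs u (Multiset.mem_cons_self u s')
    have hs' : ∀ v ∈ s', P.IsLine v := fun v hv => hs v (Multiset.mem_cons_of_mem hv)
    rw [Multiset.sum_cons, add_mul, adams_add, adams_add, adams_line_mul_sum P j hu t ht, ih hs',
      adams_line P hu, add_mul]

theorem adams_mul_pos (P : PosStructure K) (hK : HasSplitting K P) (j : ℕ) (e e' : K)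
    (he : e ∈ P.pos) (he' : e' ∈ P.pos) :
    adams P j (e * e') = adams P j e * adams P j e' := by
  obtain ⟨L, g, hg, s, s', hs, hs', hsum, hsum'⟩ := split_two hK e e' he he'
  apply hg.injective
  rw [← adams_map hg, map_mul, map_mul, ← adams_map hg, ← adams_map hg, ← hsum, ← hsum']
  exact adams_sum_mul_sum L.posStr j s s' hs hs'

theorem adams_mul (P : PosStructure K) (hK : HasSplitting K P) (j : ℕ) (x y : K) :
    adams P j (x * y) = adams P j x * adams P j y := by
  obtain ⟨e₁, e₂, h₁, h₂, rfl⟩ := P.exists_sub x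
  obtain ⟨e₃, e₄, h₃, h₄, rfl⟩ := P.exists_sub y
  have : (e₁ - e₂) * (e₃ - e₄) = e₁ * e₃ - e₁ * e₄ - (e₂ * e₃ - e₂ * e₄) := by ring
  rw [this, adams_sub, adams_sub, adams_sub, adams_sub, adams_sub,
    adams_mul_pos P hK j _ _ h₁ h₃, adams_mul_pos P hK j _ _ h₁ h₄,
    adams_mul_pos P hK j _ _ h₂ h₃, adams_mul_pos P hK j _ _ h₂ h₄]
  ring

/-- Adams operations as ring homomorphisms. -/
noncomputable def adamsRingHom (P : PosStructure K) (hK : HasSplitting K P) (j : ℕ) : K →+* K where
  toFun := adams P j
  map_one' := adams_one_elt P j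
  map_mul' := adams_mul P hK j
  map_zero' := adams_zero_elt P j
  map_add' := adams_add P j

theorem adams_adams_sum_lines (P : PosStructure K) (i j : ℕ) (s : Multiset K)
    (hs : ∀ v ∈ s, P.IsLine v) :
    adams P i (adams P j s.sum) = adams P (i * j) s.sum := by
  rw [adams_sum_lines P j s hs, adams_sum_lines P (i * j) s hs, adams_sum_lines P i _ ?_,
    Multiset.map_map]
  · congr 1
    apply Multiset.map_congr rfl
    intro v _
    simp only [Function.comp_apply]
    rw [← pow_mul, mul_comm]
  · intro w hw
    obtain ⟨v, hv, rfl⟩ := Multiset.mem_map.mp hw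
    exact isLine_pow P (hs v hv) j

theorem adams_adams_pos (P : PosStructure K) (hK : HasSplitting K P) (i j : ℕ) (e : K)
    (he : e ∈ P.pos) : adams P i (adams P j e) = adams P (i * j) e := by
  obtain ⟨L, g, hg, s, hs, hsum⟩ := split_one hK e he
  apply hg.injective
  rw [← adams_map hg, ← adams_map hg, ← adams_map hg, ← hsum]
  exact adams_adams_sum_lines L.posStr i j s hs

theorem adams_adams (P : PosStructure K) (hK : HasSplitting K P) (i j : ℕ) (x : K) :
    adams P i (adams P j x) = adams P (i * j) x := by
  obtain ⟨e₁, e₂, h₁, h₂, rfl⟩ := P.exists_sub x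
  rw [adams_sub, adams_sub, adams_sub, adams_adams_pos P hK i j e₁ h₁, adams_adams_pos P hK i j e₂ h₂]

end Groth.Agent.Lib.Helper16
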