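import Groth.Agent.Lib.Helper16.LambdaRing
import Mathlib.Algebra.Polynomial.Reverse

/-!
Helper lemmas (helper16): the identity `Σ γ^i(e - m) t^(m-i) = Σ λ^i(e) (t-1)^(m-i)`.
-/

set_option autoImplicit false
universe u

open PowerSeries Finset

namespace Groth.Agent.Lib.Helper16

variable {K : Type u} [CommRing K] [LambdaRing.LambdaOps K]

open LambdaRing

theorem one_mem_pos (P : PosStructure K) : (1 : K) ∈ P.pos := by
  have := P.natCast_mem 1 Nat.one_pos
  simpa using this

theorem lam_one_elt (P : PosStructure K) (i : ℕ) (hi : 2 ≤ i) : LambdaOps.lam i (1 : K) = 0 := by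
  apply P.lam_eq_zero 1 (one_mem_pos P) i
  rw [map_one]
  exact_mod_cast hi

theorem gamSeries_one (P : PosStructure K) : gamSeries (1 : K) = mk 1 := by
  ext k
  rw [gamSeries, coeff_mk, coeff_mk, Pi.one_apply]
  rcases Nat.eq_zero_or_pos k with rfl | hk
  · simp [gamma]
  · have hk0 : k ≠ 0 := by omega
    simp only [gamma, hk0, if_false]
    rw [Finset.sum_eq_single 1]
    · simp [LambdaOps.lam_one]
    · intro j _ hj1
      by_cases hj0 : j = 0
      · simp [hj0]
      · rw [if_neg hj0, lam_one_elt P j (by omega), mul_zero]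
    · intro h
      exfalso
      apply h
      simp only [mem_range]
      omega

theorem gamSeries_add_natCast (P : PosStructure K) (x : K) (m : ℕ) :
    gamSeries (x + (m : K)) = gamSeries x * (mk 1) ^ m := by
  induction m with
  | zero => simp
  | succ m ih =>
    rw [Nat.cast_succ, ← add_assoc, gamSeries_add, ih, gamSeries_one P, pow_succ, mul_assoc]

theorem gamSeries_sub_natCast (P : PosStructure K) (x : K) (m : ℕ) :
    gamSeries (x - (m : K)) = gamSeries x * (1 - X) ^ m := by
  have h := gamSeries_add_natCast P (x - (m : K)) m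
  rw [sub_add_cancel] at h
  rw [h, mul_assoc, ← mul_pow, mk_one_mul_one_sub_eq_one, one_pow, mul_one]

/-- The truncated λ-polynomial. -/
noncomputable def lamPoly (x : K) (m : ℕ) : Polynomial K :=
  ∑ j ∈ range (m + 1), Polynomial.C (LambdaOps.lam j x) * Polynomial.X ^ j

theorem lamPoly_coe (x : K) (m : ℕ) (h : ∀ i, m < i → LambdaOps.lam i x = 0) :
    ((lamPoly x m : Polynomial K) : PowerSeries K) = lamSeries x := by
  ext k
  rw [Polynomial.coeff_coe, lamPoly, Polynomial.finsetSum_coeff, lamSeries, coeff_mk]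
  simp only [Polynomial.coeff_C_mul_X_pow]
  by_cases hk : k < m + 1
  · rw [Finset.sum_eq_single k]
    · simp
    · intro j _ hj
      rw [if_neg (Ne.symm hj)]
    · intro hk'
      exfalso
      exact hk' (mem_range.mpr hk)
  · rw [h k (by omega)]
    apply Finset.sum_eq_zero
    intro j hj
    have : j < m + 1 := mem_range.mp hj
    rw [if_neg (by omega)]

theorem gamSeries_eq_sum (x : K) (m : ℕ) (h : ∀ i, m < i → LambdaOps.lam i x = 0) :
    gamSeries x = ∑ j ∈ range (m + 1), C (LambdaOps.lam j x) * (uSer K) ^ j := by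
  rw [gamSeries_eq_subst, ← lamPoly_coe x m h, subst_coe uSer_hasSubst, lamPoly, map_sum]
  apply Finset.sum_congr rfl
  intro j _
  rw [map_mul, map_pow, Polynomial.aeval_X, Polynomial.aeval_C]
  rfl

/-- The polynomial `Σ_j λ^j(x) t^j (1-t)^(m-j)`. -/
noncomputable def qPoly (x : K) (m : ℕ) : Polynomial K :=
  ∑ j ∈ range (m + 1), Polynomial.C (LambdaOps.lam j x) * (Polynomial.X ^ j * (1 - Polynomial.X) ^ (m - j))

theorem qPoly_coe (P : PosStructure K) (x : K) (m : ℕ) (h : ∀ i, m < i → LambdaOps.lam i x = 0) :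
    ((qPoly x m : Polynomial K) : PowerSeries K) = gamSeries (x - (m : K)) := by
  rw [gamSeries_sub_natCast P, gamSeries_eq_sum x m h, Finset.sum_mul, qPoly,
    ← Polynomial.coeToPowerSeries.ringHom_apply, map_sum]
  apply Finset.sum_congr rfl
  intro j hj
  have hj' : j ≤ m := by
    have := mem_range.mp hj
    omega
  simp only [map_mul, map_pow, map_sub, map_one, Polynomial.coeToPowerSeries.ringHom_apply,
    Polynomial.coe_C, Polynomial.coe_X]
  have hsplit : ((1 : PowerSeries K) - X) ^ m = (1 - X) ^ j * (1 - X) ^ (m - j) := by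
    rw [← pow_add]
    congr 1
    omega
  rw [hsplit, uSer, mul_pow]
  symm
  have h1 : ((mk 1 : PowerSeries K)) ^ j * (1 - X) ^ j = 1 := by
    rw [← mul_pow, mk_one_mul_one_sub_eq_one, one_pow]
  calc C (LambdaOps.lam j x) * (X ^ j * (mk 1) ^ j) * ((1 - X) ^ j * (1 - X) ^ (m - j))
      = C (LambdaOps.lam j x) * (X ^ j * ((mk 1) ^ j * (1 - X) ^ j) * (1 - X) ^ (m - j)) := by ring
    _ = C (LambdaOps.lam j x) * (X ^ j * (1 - X) ^ (m - j)) := by rw [h1, mul_one]

omit [LambdaRing.LambdaOps K] in
theorem natDegree_one_sub_X_le : (1 - Polynomial.X : Polynomial K).natDegree ≤ 1 := by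
  refine (Polynomial.natDegree_sub_le _ _).trans ?_
  exact max_le (by simp) Polynomial.natDegree_X_le

theorem qPoly_natDegree_le (x : K) (m : ℕ) : (qPoly x m).natDegree ≤ m := by
  apply Polynomial.natDegree_sum_le_of_forall_le
  intro j hj
  have hj' : j ≤ m := by
    have := mem_range.mp hj
    omega
  refine (Polynomial.natDegree_C_mul_le _ _).trans ?_
  refine (Polynomial.natDegree_mul_le).trans ?_
  have h1 : (Polynomial.X ^ j : Polynomial K).natDegree ≤ j := Polynomial.natDegree_X_pow_le j
  have h2 : ((1 - Polynomial.X : Polynomial K) ^ (m - j)).natDegree ≤ m - j := by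
    refine (Polynomial.natDegree_pow_le).trans ?_
    have : (1 - Polynomial.X : Polynomial K).natDegree ≤ 1 := natDegree_one_sub_X_le
    calc (m - j) * (1 - Polynomial.X : Polynomial K).natDegree ≤ (m - j) * 1 :=
          Nat.mul_le_mul_left _ this
      _ = m - j := mul_one _
  omega

omit [LambdaRing.LambdaOps K] in
theorem reflect_one_sub_X_pow (n : ℕ) :
    Polynomial.reflect n ((1 - Polynomial.X : Polynomial K) ^ n) = (Polynomial.X - 1) ^ n := by
  induction n with
  | zero => simp [Polynomial.reflect_one]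
  | succ n ih =>
    have hdeg1 : (1 - Polynomial.X : Polynomial K).natDegree ≤ 1 := natDegree_one_sub_X_le
    have hdegn : ((1 - Polynomial.X : Polynomial K) ^ n).natDegree ≤ n := by
      refine (Polynomial.natDegree_pow_le).trans ?_
      calc n * (1 - Polynomial.X : Polynomial K).natDegree ≤ n * 1 := Nat.mul_le_mul_left _ hdeg1
        _ = n := mul_one _
    rw [pow_succ, Polynomial.reflect_mul _ _ hdegn hdeg1, ih, pow_succ]
    congr 1
    rw [Polynomial.reflect_sub, Polynomial.reflect_one]
    have : Polynomial.reflect 1 (Polynomial.X : Polynomial K) = 1 := by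
      have := Polynomial.reflect_monomial (R := K) 1 1
      simpa using this
    rw [this, pow_one]

omit [LambdaRing.LambdaOps K] in
theorem reflect_sum {ι : Type*} (s : Finset ι) (f : ι → Polynomial K) (N : ℕ) :
    Polynomial.reflect N (∑ i ∈ s, f i) = ∑ i ∈ s, Polynomial.reflect N (f i) := by
  classical
  induction s using Finset.induction_on with
  | empty => simp
  | insert a s ha ih => rw [Finset.sum_insert ha, Finset.sum_insert ha, Polynomial.reflect_add, ih]

theorem reflect_qPoly (x : K) (m : ℕ) :
    Polynomial.reflect m (qPoly x m) =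
      ∑ j ∈ range (m + 1), Polynomial.C (LambdaOps.lam j x) * (Polynomial.X - 1) ^ (m - j) := by
  rw [qPoly, reflect_sum]
  apply Finset.sum_congr rfl
  intro j hj
  have hj' : j ≤ m := by
    have := mem_range.mp hj
    omega
  rw [Polynomial.reflect_C_mul]
  congr 1
  have hm : m = j + (m - j) := by omega
  have h2 : ((1 - Polynomial.X : Polynomial K) ^ (m - j)).natDegree ≤ m - j := by
    refine (Polynomial.natDegree_pow_le).trans ?_
    have : (1 - Polynomial.X : Polynomial K).natDegree ≤ 1 := natDegree_one_sub_X_le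
    calc (m - j) * (1 - Polynomial.X : Polynomial K).natDegree ≤ (m - j) * 1 :=
          Nat.mul_le_mul_left _ this
      _ = m - j := mul_one _
  rw [show Polynomial.reflect m (Polynomial.X ^ j * (1 - Polynomial.X : Polynomial K) ^ (m - j)) =
    Polynomial.reflect (j + (m - j)) (Polynomial.X ^ j * (1 - Polynomial.X : Polynomial K) ^ (m - j)) from by
      rw [← hm]]
  rw [Polynomial.reflect_mul _ _ (Polynomial.natDegree_X_pow_le j) h2, reflect_one_sub_X_pow,
    Polynomial.reflect_monomial]
  simp

omit [LambdaRing.LambdaOps K] in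
theorem reflect_eq_sum (Q : Polynomial K) (m : ℕ) (hQ : Q.natDegree ≤ m) :
    Polynomial.reflect m Q = ∑ i ∈ range (m + 1), Polynomial.C (Q.coeff i) * Polynomial.X ^ (m - i) := by
  ext k
  rw [Polynomial.coeff_reflect, Polynomial.finsetSum_coeff]
  simp only [Polynomial.coeff_C_mul_X_pow]
  by_cases hk : k ≤ m
  · rw [Polynomial.revAt_le hk, Finset.sum_eq_single (m - k)]
    · rw [if_pos (by omega)]
    · intro j hj hne
      have := mem_range.mp hj
      rw [if_neg (by omega)]
    · intro h
      exfalso
      apply h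
      simp only [mem_range]
      omega
  · have hk' : m < k := by omega
    rw [Polynomial.revAt_eq_self_of_lt hk', Polynomial.coeff_eq_zero_of_natDegree_lt (by omega)]
    symm
    apply Finset.sum_eq_zero
    intro j hj
    rw [if_neg (by omega)]

theorem gamma_sub_aug_identity (P : PosStructure K) (x : K) (m : ℕ)
    (h : ∀ i, m < i → LambdaOps.lam i x = 0) :
    (∑ i ∈ range (m + 1), Polynomial.C (gamma i (x - (m : K))) * Polynomial.X ^ (m - i)) =
      ∑ i ∈ range (m + 1), Polynomial.C (LambdaOps.lam i x) * (Polynomial.X - 1) ^ (m - i) := by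
  rw [← reflect_qPoly, reflect_eq_sum _ _ (qPoly_natDegree_le x m)]
  apply Finset.sum_congr rfl
  intro i _
  have := congrArg (coeff i) (qPoly_coe P x m h)
  rw [Polynomial.coeff_coe, gamSeries, coeff_mk] at this
  rw [this]

end Groth.Agent.Lib.Helper16
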