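import Groth.Agent.Lib.Helper16.LambdaRing
import Groth.Agent.S3287

/-!
Helper lemmas (helper16): Adams operations, additivity, compatibility with extensions, and the
splitting principle for the λ-rings of `Groth.Prelude.Def_LambdaRing`.
-/

set_option autoImplicit false
universe u

open PowerSeries Finset

namespace Groth.Agent.Lib.Helper16

open LambdaRing

section Basic

variable {K : Type u} [CommRing K] [LambdaRing.LambdaOps K]

/-- `λ_{-t}(x)`. -/
noncomputable def negLam (x : K) : PowerSeries K := rescale (-1 : K) (lamSeries x)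

theorem constantCoeff_negLam (x : K) : constantCoeff (negLam x) = 1 := by
  rw [← coeff_zero_eq_constantCoeff_apply, negLam, coeff_rescale, lamSeries, coeff_mk,
    LambdaOps.lam_zero]
  simp

theorem negLam_add (x y : K) : negLam (x + y) = negLam x * negLam y := by
  rw [negLam, lamSeries_add, map_mul]
  rfl

theorem negLam_mul_inv (x : K) : negLam x * (negLam x).invOfUnit 1 = 1 := by
  apply mul_invOfUnit
  rw [constantCoeff_negLam]
  rfl

theorem adamsSeries_eq (P : PosStructure K) (x : K) :
    adamsSeries P x = C (P.aug x : K) - X * derivative K (negLam x) * (negLam x).invOfUnit 1 := rfl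

theorem adamsSeries_spec (P : PosStructure K) (x : K) :
    (C (P.aug x : K) - adamsSeries P x) * negLam x = X * derivative K (negLam x) := by
  rw [adamsSeries_eq, sub_sub_cancel, mul_assoc, mul_assoc, mul_comm ((negLam x).invOfUnit 1),
    negLam_mul_inv, mul_one]

theorem adamsSeries_unique (P : PosStructure K) (x : K) (A : PowerSeries K)
    (h : (C (P.aug x : K) - A) * negLam x = X * derivative K (negLam x)) :
    A = adamsSeries P x := by
  have h2 := adamsSeries_spec P x
  have h3 : (C (P.aug x : K) - A) = (C (P.aug x : K) - adamsSeries P x) := by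
    calc (C (P.aug x : K) - A) = (C (P.aug x : K) - A) * (negLam x * (negLam x).invOfUnit 1) := by
          rw [negLam_mul_inv, mul_one]
      _ = ((C (P.aug x : K) - A) * negLam x) * (negLam x).invOfUnit 1 := by ring
      _ = ((C (P.aug x : K) - adamsSeries P x) * negLam x) * (negLam x).invOfUnit 1 := by rw [h, h2]
      _ = (C (P.aug x : K) - adamsSeries P x) * (negLam x * (negLam x).invOfUnit 1) := by ring
      _ = (C (P.aug x : K) - adamsSeries P x) := by rw [negLam_mul_inv, mul_one]
  have := sub_right_injective h3
  exact this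

theorem adamsSeries_add (P : PosStructure K) (x y : K) :
    adamsSeries P (x + y) = adamsSeries P x + adamsSeries P y := by
  symm
  apply adamsSeries_unique
  rw [negLam_add, Derivation.leibniz, map_add, Int.cast_add, map_add]
  have hx := adamsSeries_spec P x
  have hy := adamsSeries_spec P y
  simp only [smul_eq_mul]
  calc (C (P.aug x : K) + C (P.aug y : K) - (adamsSeries P x + adamsSeries P y)) * (negLam x * negLam y)
      = ((C (P.aug x : K) - adamsSeries P x) * negLam x) * negLam y +
          ((C (P.aug y : K) - adamsSeries P y) * negLam y) * negLam x := by ring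
    _ = X * (negLam x * derivative K (negLam y) + negLam y * derivative K (negLam x)) := by
        rw [hx, hy]; ring

theorem adams_add (P : PosStructure K) (j : ℕ) (x y : K) :
    adams P j (x + y) = adams P j x + adams P j y := by
  simp only [adams, adamsSeries_add, map_add]

/-- Adams operations as additive maps. -/
noncomputable def adamsHom (P : PosStructure K) (j : ℕ) : K →+ K :=
  AddMonoidHom.mk' (adams P j) (adams_add P j)

@[simp] theorem adamsHom_apply (P : PosStructure K) (j : ℕ) (x : K) : adamsHom P j x = adams P j x := rfl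

theorem isLine_one (P : PosStructure K) : P.IsLine (1 : K) := by
  refine ⟨?_, map_one _⟩
  have := P.natCast_mem 1 Nat.one_pos
  simpa using this

theorem isLine_mul (P : PosStructure K) {u v : K} (hu : P.IsLine u) (hv : P.IsLine v) :
    P.IsLine (u * v) := by
  refine ⟨P.mul_mem u v hu.1 hv.1, ?_⟩
  rw [map_mul, hu.2, hv.2, mul_one]

theorem isLine_pow (P : PosStructure K) {u : K} (hu : P.IsLine u) (j : ℕ) : P.IsLine (u ^ j) := by
  induction j with
  | zero => simpa using isLine_one P
  | succ j ih => rw [pow_succ]; exact isLine_mul P ih hu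

theorem adams_line (P : PosStructure K) {u : K} (hu : P.IsLine u) (j : ℕ) : adams P j u = u ^ j :=
  Groth.Agent.S3287.result K P u hu j

theorem adams_sum_lines (P : PosStructure K) (j : ℕ) (s : Multiset K) (hs : ∀ u ∈ s, P.IsLine u) :
    adams P j s.sum = (s.map (· ^ j)).sum := by
  rw [← adamsHom_apply, map_multiset_sum]
  congr 1
  apply Multiset.map_congr rfl
  intro u hu
  exact adams_line P (hs u hu) j

end Basic

section Ext

variable {K : Type u} [CommRing K] [LambdaRing.LambdaOps K]
variable {K' : Type u} [CommRing K'] [LambdaRing.LambdaOps K']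

theorem negLam_map {f : K →+* K'} (hf : IsLambdaHom f) (x : K) :
    negLam (f x) = PowerSeries.map f (negLam x) := by
  ext n
  simp only [negLam, coeff_rescale, coeff_map, lamSeries, coeff_mk, map_mul, map_pow, map_neg,
    map_one, hf n x]

omit [LambdaRing.LambdaOps K] [LambdaRing.LambdaOps K'] in
theorem derivative_map (f : K →+* K') (g : PowerSeries K) :
    derivative K' (PowerSeries.map f g) = PowerSeries.map f (derivative K g) := by
  ext n
  simp only [coeff_derivative, coeff_map, map_mul, map_add, map_natCast, map_one]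

theorem adamsSeries_map {P : PosStructure K} {P' : PosStructure K'} {f : K →+* K'}
    (hf : IsExtension P P' f) (x : K) :
    adamsSeries P' (f x) = PowerSeries.map f (adamsSeries P x) := by
  symm
  apply adamsSeries_unique
  have h := congrArg (PowerSeries.map f) (adamsSeries_spec P x)
  rw [map_mul, map_sub, map_mul, map_X, map_C, map_intCast] at h
  rw [negLam_map hf.isLambdaHom, derivative_map, hf.aug_comp]
  exact h

theorem adams_map {P : PosStructure K} {P' : PosStructure K'} {f : K →+* K'}
    (hf : IsExtension P P' f) (j : ℕ) (x : K) :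
    adams P' j (f x) = f (adams P j x) := by
  simp only [adams, adamsSeries_map hf, coeff_map]

theorem isLine_map {P : PosStructure K} {P' : PosStructure K'} {f : K →+* K'}
    (hf : IsExtension P P' f) {u : K} (hu : P.IsLine u) : P'.IsLine (f u) :=
  ⟨hf.pos_subset u hu.1, by rw [hf.aug_comp, hu.2]⟩

variable {K'' : Type u} [CommRing K''] [LambdaRing.LambdaOps K'']

theorem isExtension_comp {P : PosStructure K} {P' : PosStructure K'} {P'' : PosStructure K''}
    {f : K →+* K'} {g : K' →+* K''} (hf : IsExtension P P' f) (hg : IsExtension P' P'' g) :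
    IsExtension P P'' (g.comp f) where
  isLambdaHom i x := by
    simp only [RingHom.comp_apply]
    rw [hf.isLambdaHom, hg.isLambdaHom]
  injective := hg.injective.comp hf.injective
  aug_comp x := by
    simp only [RingHom.comp_apply]
    rw [hg.aug_comp, hf.aug_comp]
  pos_subset e he := hg.pos_subset _ (hf.pos_subset e he)

end Ext

section Split

variable {K : Type u} [CommRing K] [LambdaRing.LambdaOps K]

/-- One positive element splits in some extension. -/
theorem split_one {P : PosStructure K} (hK : HasSplitting K P) (e : K) (he : e ∈ P.pos) :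
    ∃ (L : PosLambdaRing.{u}) (g : K →+* L.carrier), IsExtension P L.posStr g ∧
      ∃ s : Multiset L.carrier, (∀ u ∈ s, L.posStr.IsLine u) ∧ s.sum = g e := by
  obtain ⟨C, hKC, hC⟩ := hK
  obtain ⟨L', _, f, hf, s, hs, hsum⟩ := hC ⟨K, P⟩ hKC e he
  exact ⟨L', f, hf, s, hs, hsum⟩

/-- Two positive elements split simultaneously in some extension. -/
theorem split_two {P : PosStructure K} (hK : HasSplitting K P) (e e' : K) (he : e ∈ P.pos)
    (he' : e' ∈ P.pos) :
    ∃ (L : PosLambdaRing.{u}) (g : K →+* L.carrier), IsExtension P L.posStr g ∧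
      ∃ s s' : Multiset L.carrier, (∀ u ∈ s, L.posStr.IsLine u) ∧ (∀ u ∈ s', L.posStr.IsLine u) ∧
        s.sum = g e ∧ s'.sum = g e' := by
  obtain ⟨C, hKC, hC⟩ := hK
  obtain ⟨L₁, hL₁, f₁, hf₁, s₁, hs₁, hsum₁⟩ := hC ⟨K, P⟩ hKC e he
  have he'₁ : f₁ e' ∈ L₁.posStr.pos := hf₁.pos_subset e' he'
  obtain ⟨L₂, _, f₂, hf₂, s₂, hs₂, hsum₂⟩ := hC L₁ hL₁ (f₁ e') he'₁
  refine ⟨L₂, f₂.comp f₁, isExtension_comp hf₁ hf₂, s₁.map f₂, s₂, ?_, hs₂, ?_, ?_⟩
  · intro u hu
    obtain ⟨v, hv, rfl⟩ := Multiset.mem_map.mp hu
    exact isLine_map hf₂ (hs₁ v hv)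
  · rw [RingHom.comp_apply, ← hsum₁, map_multiset_sum]
  · rw [RingHom.comp_apply, hsum₂]

end Split

section Choose

variable {K : Type u} [CommRing K] [LambdaRing.LambdaOps K]

theorem lamSeries_zero : lamSeries (0 : K) = 1 := by
  have h := lamSeries_add (0 : K) 0
  rw [add_zero] at h
  have hu : IsUnit (lamSeries (0 : K)) := by
    rw [isUnit_iff_constantCoeff, ← coeff_zero_eq_constantCoeff_apply, lamSeries, coeff_mk,
      LambdaOps.lam_zero]
    exact isUnit_one
  have h2 : lamSeries (0 : K) * lamSeries 0 = lamSeries 0 * 1 := by rw [← h, mul_one]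
  exact hu.mul_left_cancel h2

theorem lamSeries_line (P : PosStructure K) {u : K} (hu : P.IsLine u) :
    lamSeries u = 1 + C u * X := by
  ext n
  rw [lamSeries, coeff_mk, map_add, coeff_one]
  rcases n with _ | _ | n
  · simp [LambdaOps.lam_zero]
  · simp [LambdaOps.lam_one]
  · have : LambdaOps.lam (n + 2) u = 0 := by
      apply P.lam_eq_zero u hu.1
      rw [hu.2]
      have : (2 : ℤ) ≤ ((n + 2 : ℕ) : ℤ) := by exact_mod_cast Nat.le_add_left 2 n
      omega
    rw [this]
    simp

theorem aug_lam_sum_lines (P : PosStructure K) (s : Multiset K) (hs : ∀ u ∈ s, P.IsLine u) (i : ℕ) :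
    P.aug (LambdaOps.lam i s.sum) = ((Multiset.card s).choose i : ℤ) := by
  induction s using Multiset.induction_on generalizing i with
  | empty =>
    have h := congrArg (coeff i) (lamSeries_zero (K := K))
    rw [lamSeries, coeff_mk, coeff_one] at h
    rw [Multiset.sum_zero, h, Multiset.card_zero]
    rcases i with _ | i
    · simp
    · simp
  | cons u t ih =>
    have hu : P.IsLine u := hs u (Multiset.mem_cons_self u t)
    have ht : ∀ v ∈ t, P.IsLine v := fun v hv => hs v (Multiset.mem_cons_of_mem hv)
    have h := congrArg (coeff i) (lamSeries_add u t.sum)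
    rw [lamSeries_line P hu, add_mul, one_mul, map_add] at h
    rw [Multiset.sum_cons, Multiset.card_cons]
    rcases i with _ | i
    · simp [LambdaOps.lam_zero]
    · rw [mul_assoc, coeff_C_mul, coeff_succ_X_mul] at h
      simp only [lamSeries, coeff_mk] at h
      rw [h, map_add, map_mul, hu.2, one_mul, ih ht, ih ht, Nat.choose_succ_succ]
      push_cast
      ring

theorem aug_sum_lines (P : PosStructure K) (s : Multiset K) (hs : ∀ u ∈ s, P.IsLine u) :
    P.aug s.sum = (Multiset.card s : ℤ) := by
  induction s using Multiset.induction_on with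
  | empty => simp
  | cons u t ih =>
    have hu : P.IsLine u := hs u (Multiset.mem_cons_self u t)
    have ht : ∀ v ∈ t, P.IsLine v := fun v hv => hs v (Multiset.mem_cons_of_mem hv)
    rw [Multiset.sum_cons, map_add, hu.2, ih ht, Multiset.card_cons]
    push_cast
    ring

theorem aug_lam_eq_choose (P : PosStructure K) (hK : HasSplitting K P) (e : K) (he : e ∈ P.pos)
    (i : ℕ) : P.aug (LambdaOps.lam i e) = ((P.aug e).toNat.choose i : ℤ) := by
  obtain ⟨L, g, hg, s, hs, hsum⟩ := split_one hK e he
  have h1 : P.aug (LambdaOps.lam i e) = L.posStr.aug (LambdaOps.lam i s.sum) := by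
    rw [hsum, ← hg.isLambdaHom, hg.aug_comp]
  have h2 : P.aug e = (Multiset.card s : ℤ) := by
    rw [← hg.aug_comp, ← hsum, aug_sum_lines L.posStr s hs]
  rw [h1, aug_lam_sum_lines L.posStr s hs, h2]
  simp

end Choose

end Groth.Agent.Lib.Helper16
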