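import Mathlib

/-!
# Noetherian domains in which a nonzero element lies in every nonzero prime

Tools for EGA IV 10.5: a Noetherian domain `B` with a nonzero `f` lying in every nonzero prime is
semi-local of dimension `≤ 1`.
-/

namespace Groth.Agent.Lib.Helper16

open Ideal

/-- Key lemma: in a Noetherian domain, if `f ≠ 0` lies in every nonzero prime, then every nonzero
prime is minimal over `(f)`. -/
theorem mem_minimalPrimes_of_forall_mem {B : Type*} [CommRing B] [IsDomain B] [IsNoetherianRing B]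
    (f : B) (hf : f ≠ 0) (h : ∀ q : Ideal B, q.IsPrime → q ≠ ⊥ → f ∈ q)
    (q : Ideal B) (hq : q.IsPrime) (hq0 : q ≠ ⊥) : q ∈ (Ideal.span {f}).minimalPrimes := by
  by_contra hqm
  have hfin : ((Ideal.span {f}).minimalPrimes).Finite :=
    Ideal.finite_minimalPrimes_of_isNoetherianRing B _
  have hfq : Ideal.span {f} ≤ q := by
    rw [Ideal.span_le, Set.singleton_subset_iff]; exact h q hq hq0
  have h1 : ∀ p ∈ (Ideal.span {f}).minimalPrimes, ¬ q ≤ p := by
    intro p hp hqp
    have hpq : p ≤ q := hp.2 ⟨hq, hfq⟩ hqp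
    exact hqm ((le_antisymm hqp hpq) ▸ hp)
  have h2 : ¬ ((q : Set B) ⊆ ⋃ p ∈ (Ideal.span {f}).minimalPrimes, ((id p : Ideal B) : Set B)) := by
    intro hsub
    obtain ⟨p, hp, hqp⟩ := (Ideal.subset_union_prime_finite hfin (f := id) ⊥ ⊥
      (fun p hp _ _ => hp.1.1)).mp hsub
    exact h1 p hp hqp
  rw [Set.not_subset] at h2
  obtain ⟨x, hxq, hx⟩ := h2
  simp only [id, Set.mem_iUnion, SetLike.mem_coe, not_exists] at hx
  obtain ⟨p₀, hp₀, hp₀q⟩ := Ideal.exists_minimalPrimes_le hfq
  have hx0 : x ≠ 0 := by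
    rintro rfl
    exact hx p₀ hp₀ p₀.zero_mem
  have hxq' : Ideal.span {x} ≤ q := by
    rw [Ideal.span_le, Set.singleton_subset_iff]; exact hxq
  obtain ⟨q', hq', hq'q⟩ := Ideal.exists_minimalPrimes_le hxq'
  have hq'p : q'.IsPrime := hq'.1.1
  have hxq'' : x ∈ q' := hq'.1.2 (Ideal.subset_span rfl)
  have hq'0 : q' ≠ ⊥ := by
    rintro rfl
    exact hx0 (by simpa using hxq'')
  have hfq' : Ideal.span {f} ≤ q' := by
    rw [Ideal.span_le, Set.singleton_subset_iff]; exact h q' hq'p hq'0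
  obtain ⟨p, hp, hpq'⟩ := Ideal.exists_minimalPrimes_le hfq'
  have hpp : p.IsPrime := hp.1.1
  have hht : q'.height ≤ 1 := Ideal.height_le_one_of_isPrincipal_of_mem_minimalPrimes _ q' hq'
  have hp0 : p ≠ ⊥ := by
    rintro rfl
    have hf0 : f ∈ (⊥ : Ideal B) := hp.1.2 (Ideal.subset_span rfl)
    exact hf (by simpa using hf0)
  rcases eq_or_lt_of_le hpq' with heq | hlt
  · subst heq
    exact hx p hp hxq''
  · have hbot : (⊥ : Ideal B) < p := bot_lt_iff_ne_bot.mpr hp0
    have : (⊥ : Ideal B).IsPrime := Ideal.isPrime_bot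
    have h01 : (⊥ : Ideal B).height < p.height := Ideal.height_strict_mono_of_isPrime hbot
    have h12 : p.height < q'.height := Ideal.height_strict_mono_of_isPrime hlt
    have : (1 : ℕ∞) ≤ p.height := Order.one_le_iff_pos.mpr (lt_of_le_of_lt zero_le h01)
    exact absurd hht (not_le.mpr (lt_of_le_of_lt this h12))

/-- Under the hypotheses of the key lemma, there are finitely many nonzero primes. -/
theorem finite_setOf_isPrime_ne_bot {B : Type*} [CommRing B] [IsDomain B] [IsNoetherianRing B]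
    (f : B) (hf : f ≠ 0) (h : ∀ q : Ideal B, q.IsPrime → q ≠ ⊥ → f ∈ q) :
    {q : Ideal B | q.IsPrime ∧ q ≠ ⊥}.Finite :=
  (Ideal.finite_minimalPrimes_of_isNoetherianRing B (Ideal.span {f})).subset
    (fun q hq => mem_minimalPrimes_of_forall_mem f hf h q hq.1 hq.2)

/-- Under the hypotheses of the key lemma, every nonzero prime is maximal. -/
theorem isMaximal_of_forall_mem {B : Type*} [CommRing B] [IsDomain B] [IsNoetherianRing B]
    (f : B) (hf : f ≠ 0) (h : ∀ q : Ideal B, q.IsPrime → q ≠ ⊥ → f ∈ q)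
    (q : Ideal B) (hq : q.IsPrime) (hq0 : q ≠ ⊥) : q.IsMaximal := by
  obtain ⟨m, hm, hqm⟩ := Ideal.exists_le_maximal q hq.ne_top
  have hm0 : m ≠ ⊥ := fun e => hq0 (le_bot_iff.mp (e ▸ hqm))
  have hmM := mem_minimalPrimes_of_forall_mem f hf h m hm.isPrime hm0
  have hqM := mem_minimalPrimes_of_forall_mem f hf h q hq hq0
  have : m ≤ q := hmM.2 hqM.1 hqm
  exact (le_antisymm hqm this) ▸ hm

/-- A domain that is not a field and in which all nonzero primes are maximal has dimension 1. -/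
theorem ringKrullDim_eq_one_of_forall_isMaximal {B : Type*} [CommRing B] [IsDomain B]
    (hn : ¬ IsField B) (h : ∀ I : Ideal B, I ≠ ⊥ → I.IsPrime → I.IsMaximal) :
    ringKrullDim B = 1 := by
  have h0 : ¬ ringKrullDim B ≤ 0 := fun h ↦ by
    have : Ring.KrullDimLE 0 B := Ring.krullDimLE_iff.mpr h
    exact hn Ring.KrullDimLE.isField_of_isDomain
  have h1 : Ring.KrullDimLE 1 B := Ring.krullDimLE_one_iff_of_noZeroDivisors.mpr h
  rw [Ring.krullDimLE_iff] at h1
  exact le_antisymm h1 (Order.succ_le_of_lt (lt_of_not_ge h0))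

/-- In a domain of dimension one all nonzero primes are maximal. -/
theorem isMaximal_of_ringKrullDim_eq_one {B : Type*} [CommRing B] [IsDomain B]
    (h : ringKrullDim B = 1) (I : Ideal B) (hI0 : I ≠ ⊥) (hI : I.IsPrime) : I.IsMaximal :=
  Ring.krullDimLE_one_iff_of_noZeroDivisors.mp (Ring.krullDimLE_iff.mpr (by simp [h])) I hI0 hI

end Groth.Agent.Lib.Helper16
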