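import Groth.Agent.Lib.Helper16.Jacobson

/-!
# Locally closed points in locally Noetherian spectral-like spaces

`GoodSpace T` : every nonempty locally closed subset contains a locally closed point, and all strict
specialisations of a locally closed point are closed points.  Holds for `PrimeSpectrum` of a
Noetherian ring (via Krull's principal ideal theorem), is local for open covers, and implies that
an open subset containing no closed point is a Jacobson space.
-/

namespace Groth.Agent.Lib.Helper16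

open Topology

/-- Every nonempty locally closed set contains a locally closed point, and strict specialisations
of locally closed points have no further specialisations. -/
def GoodSpace (T : Type*) [TopologicalSpace T] : Prop :=
  (∀ Z : Set T, Z.Nonempty → IsLocallyClosed Z → ∃ z ∈ Z, IsLocallyClosed ({z} : Set T)) ∧
  (∀ z z' y : T, IsLocallyClosed ({z} : Set T) → z ⤳ z' → z' ⤳ y → z ≠ z' → z' = y)

theorem isMaximal_of_isLocallyClosed_singleton {S : Type*} [CommRing S] [IsNoetherianRing S]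
    (z z' : PrimeSpectrum S) (hz : IsLocallyClosed ({z} : Set (PrimeSpectrum S)))
    (hzz' : z ⤳ z') (hne : z ≠ z') : z'.asIdeal.IsMaximal := by
  obtain ⟨U, C, hU, hC, hUC⟩ := hz
  have hzU : z ∈ U := (hUC ▸ Set.mem_singleton z : z ∈ U ∩ C).1
  have hzC : z ∈ C := (hUC ▸ Set.mem_singleton z : z ∈ U ∩ C).2
  obtain ⟨_, ⟨g, rfl⟩, hzg, hgU⟩ :=
    PrimeSpectrum.isTopologicalBasis_basic_opens.exists_subset_of_mem_open hzU hU
  have hgz : g ∉ z.asIdeal := hzg
  have huniq : ∀ w : PrimeSpectrum S, z ⤳ w → g ∉ w.asIdeal → w = z := by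
    intro w hw hgw
    have : w ∈ U ∩ C := ⟨hgU hgw, hw.mem_closed hC hzC⟩
    rw [← hUC] at this
    exact this
  have hsurj : Function.Surjective (Ideal.Quotient.mk z.asIdeal) := Ideal.Quotient.mk_surjective
  have hf0 : (Ideal.Quotient.mk z.asIdeal g) ≠ 0 := fun e => hgz (Ideal.Quotient.eq_zero_iff_mem.mp e)
  have hcomap_bot : (⊥ : Ideal (S ⧸ z.asIdeal)).comap (Ideal.Quotient.mk z.asIdeal) = z.asIdeal := by
    rw [← RingHom.ker_eq_comap_bot, Ideal.mk_ker]
  have hkey : ∀ q : Ideal (S ⧸ z.asIdeal), q.IsPrime → q ≠ ⊥ → Ideal.Quotient.mk z.asIdeal g ∈ q := by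
    intro q hq hq0
    by_contra hgq
    have hQ : (q.comap (Ideal.Quotient.mk z.asIdeal)).IsPrime := Ideal.comap_isPrime _ _
    have hle : z.asIdeal ≤ q.comap (Ideal.Quotient.mk z.asIdeal) :=
      hcomap_bot.symm.le.trans (Ideal.comap_mono bot_le)
    have := huniq ⟨q.comap (Ideal.Quotient.mk z.asIdeal), hQ⟩
      ((PrimeSpectrum.le_iff_specializes _ _).mp hle) hgq
    apply hq0
    apply Ideal.comap_injective_of_surjective _ hsurj
    rw [hcomap_bot]
    exact congrArg PrimeSpectrum.asIdeal this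
  have hle' : z.asIdeal ≤ z'.asIdeal := (PrimeSpectrum.le_iff_specializes z z').mpr hzz'
  have hq'prime : (z'.asIdeal.map (Ideal.Quotient.mk z.asIdeal)).IsPrime :=
    Ideal.isPrime_map_quotientMk_of_isPrime hle'
  have hq'comap : (z'.asIdeal.map (Ideal.Quotient.mk z.asIdeal)).comap (Ideal.Quotient.mk z.asIdeal)
      = z'.asIdeal := Ideal.comap_map_mk hle'
  have hq'0 : z'.asIdeal.map (Ideal.Quotient.mk z.asIdeal) ≠ ⊥ := by
    intro e
    rw [e, hcomap_bot] at hq'comap
    exact hne (PrimeSpectrum.ext hq'comap)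
  have hmax := isMaximal_of_forall_mem _ hf0 hkey _ hq'prime hq'0
  rw [← hq'comap]
  exact Ideal.comap_isMaximal_of_surjective _ hsurj

theorem goodSpace_primeSpectrum (S : Type*) [CommRing S] [IsNoetherianRing S] :
    GoodSpace (PrimeSpectrum S) := by
  refine ⟨?_, ?_⟩
  · intro Z hZ hZ'
    obtain ⟨z₀, hz₀⟩ := hZ
    obtain ⟨M, ⟨z, hz, rfl⟩, hmax⟩ := set_has_maximal_iff_noetherian.mpr
      (inferInstance : IsNoetherian S S) (PrimeSpectrum.asIdeal '' Z) ⟨_, z₀, hz₀, rfl⟩
    refine ⟨z, hz, ?_⟩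
    have : ({z} : Set (PrimeSpectrum S)) = Z ∩ closure {z} := by
      ext w
      constructor
      · rintro rfl
        exact ⟨hz, subset_closure rfl⟩
      · rintro ⟨hwZ, hw⟩
        have hzw : z ≤ w := (PrimeSpectrum.le_iff_specializes z w).mpr
          (specializes_iff_mem_closure.mpr hw)
        have hnlt := hmax w.asIdeal ⟨w, hwZ, rfl⟩
        have : z.asIdeal = w.asIdeal := by
          by_contra hne
          exact hnlt (lt_of_le_of_ne hzw hne)
        exact (PrimeSpectrum.ext this).symm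
    rw [this]
    exact hZ'.inter isClosed_closure.isLocallyClosed
  · intro z z' y hz hzz' hz'y hne
    have hmax := isMaximal_of_isLocallyClosed_singleton z z' hz hzz' hne
    have hle : z'.asIdeal ≤ y.asIdeal := (PrimeSpectrum.le_iff_specializes z' y).mpr hz'y
    exact PrimeSpectrum.ext (hmax.eq_of_le y.2.ne_top hle)

theorem GoodSpace.of_isOpenEmbedding_cover.{v} {X : Type*} [TopologicalSpace X]
    (h : ∀ y : X, ∃ (T : Type v) (_ : TopologicalSpace T) (j : T → X),
      IsOpenEmbedding j ∧ y ∈ Set.range j ∧ GoodSpace T) : GoodSpace X := by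
  refine ⟨?_, ?_⟩
  · intro Z hZ hZ'
    obtain ⟨z₀, hz₀⟩ := hZ
    obtain ⟨T, _, j, hj, ⟨t₀, rfl⟩, hT⟩ := h z₀
    obtain ⟨t, ht, ht'⟩ := hT.1 (j ⁻¹' Z) ⟨t₀, hz₀⟩ (hZ'.preimage hj.continuous)
    refine ⟨j t, ht, ?_⟩
    rw [← Set.image_singleton]
    exact ht'.image hj.isInducing hj.isOpen_range.isLocallyClosed
  · intro z z' y hz hzz' hz'y hne
    obtain ⟨T, _, j, hj, ⟨b, rfl⟩, hT⟩ := h y
    obtain ⟨a', rfl⟩ : z' ∈ Set.range j := hz'y.mem_open hj.isOpen_range ⟨b, rfl⟩
    obtain ⟨a, rfl⟩ : z ∈ Set.range j := hzz'.mem_open hj.isOpen_range ⟨a', rfl⟩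
    have ha : IsLocallyClosed ({a} : Set T) := by
      have := hz.preimage hj.continuous
      rwa [← Set.image_singleton, Set.preimage_image_eq _ hj.injective] at this
    have := hT.2 a a' b ha (hj.isInducing.specializes_iff.mp hzz')
      (hj.isInducing.specializes_iff.mp hz'y) (fun e => hne (congrArg j e))
    exact congrArg j this

theorem GoodSpace.jacobsonSpace_of_isOpen {X : Type*} [TopologicalSpace X] (hX : GoodSpace X)
    (U : Set X) (hU : IsOpen U) (hcl : ∀ x ∈ U, ¬ IsClosed ({x} : Set X)) : JacobsonSpace U := by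
  rw [jacobsonSpace_iff_locallyClosed]
  intro Z hZ hZ'
  have hZ₁ : IsLocallyClosed (Subtype.val '' Z : Set X) :=
    hZ'.image IsInducing.subtypeVal hU.isOpenEmbedding_subtypeVal.isOpen_range.isLocallyClosed
  obtain ⟨_, ⟨z₀, hz₀, rfl⟩, hz⟩ := hX.1 _ (hZ.image _) hZ₁
  refine ⟨z₀, hz₀, ?_⟩
  rw [mem_closedPoints_iff, ← closure_subset_iff_isClosed]
  intro w hw
  have hsp : (z₀ : X) ⤳ (w : X) := (subtype_specializes_iff z₀ w).mp (specializes_iff_mem_closure.mpr hw)
  by_contra hne
  have hne' : (z₀ : X) ≠ (w : X) := fun e => hne (Subtype.ext e.symm)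
  apply hcl (w : X) w.2
  rw [← closure_subset_iff_isClosed]
  intro y hy
  exact (hX.2 _ _ y hz hsp (specializes_iff_mem_closure.mpr hy) hne').symm

end Groth.Agent.Lib.Helper16
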