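import Groth.Prelude.Def_KZero
import Mathlib

/-!
# K₀ of finitely generated modules over a PID (helper16)
-/

set_option autoImplicit false
universe u
open CategoryTheory

namespace Groth.Agent.Lib.Helper16

namespace KZeroPID

variable (A : Type u) [CommRing A]

/-- the property "finitely generated" -/
abbrev FinP : ObjectProperty (ModuleCat.{u} A) := fun M => Module.Finite A M

/-- class of a finite module -/
noncomputable abbrev cl (M : Type u) [AddCommGroup M] [Module A M] : KZero.K0sub (FinP A) :=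
  KZero.clSub (FinP A) (ModuleCat.of A M)

variable {A}

lemma clSub_eq (M : ModuleCat.{u} A) (h : Module.Finite A M) :
    KZero.clSub (FinP A) M = QuotientAddGroup.mk (FreeAbelianGroup.of ⟨M, h⟩) := by
  unfold KZero.clSub
  rw [dif_pos h]

lemma cl_of_shortExact (S : ShortComplex (ModuleCat.{u} A)) (hS : S.ShortExact)
    (h₁ : Module.Finite A S.X₁) (h₂ : Module.Finite A S.X₂) (h₃ : Module.Finite A S.X₃) :
    KZero.clSub (FinP A) S.X₂ = KZero.clSub (FinP A) S.X₁ + KZero.clSub (FinP A) S.X₃ := by
  rw [clSub_eq _ h₁, clSub_eq _ h₂, clSub_eq _ h₃, ← QuotientAddGroup.mk_add, eq_comm,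
    QuotientAddGroup.eq]
  have : FreeAbelianGroup.of (⟨S.X₂, h₂⟩ : Subtype (FinP A)) - FreeAbelianGroup.of ⟨S.X₁, h₁⟩ -
      FreeAbelianGroup.of ⟨S.X₃, h₃⟩ ∈ KZero.relSub (FinP A) :=
    AddSubgroup.subset_closure ⟨S, h₁, h₂, h₃, hS, rfl⟩
  convert this using 1
  abel

lemma cl_of_exact {M₁ M₂ M₃ : Type u} [AddCommGroup M₁] [Module A M₁] [AddCommGroup M₂]
    [Module A M₂] [AddCommGroup M₃] [Module A M₃] [Module.Finite A M₁] [Module.Finite A M₂]
    [Module.Finite A M₃] (f : M₁ →ₗ[A] M₂) (g : M₂ →ₗ[A] M₃) (hf : Function.Injective f)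
    (hg : Function.Surjective g) (hfg : Function.Exact f g) :
    cl A M₂ = cl A M₁ + cl A M₃ := by
  have h0 : g.comp f = 0 := by
    ext x
    exact hfg.apply_apply_eq_zero x
  exact cl_of_shortExact (ModuleCat.shortComplexOfCompEqZero f g h0)
    (ModuleCat.shortComplex_shortExact _ hfg hf hg) ‹_› ‹_› ‹_›

lemma cl_of_subsingleton (M : Type u) [AddCommGroup M] [Module A M] [Subsingleton M] :
    cl A M = 0 := by
  have : Module.Finite A M := Module.Finite.of_surjective (0 : M →ₗ[A] M)
    (fun x => ⟨0, Subsingleton.elim _ _⟩)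
  have := cl_of_exact (A := A) (LinearMap.id : M →ₗ[A] M) (0 : M →ₗ[A] M)
    Function.injective_id (fun x => ⟨0, Subsingleton.elim _ _⟩)
    (fun x => ⟨fun _ => ⟨x, rfl⟩, fun _ => Subsingleton.elim _ _⟩)
  simpa using this

lemma cl_of_linearEquiv {M N : Type u} [AddCommGroup M] [Module A M] [AddCommGroup N]
    [Module A N] [Module.Finite A M] (e : M ≃ₗ[A] N) :
    cl A N = cl A M := by
  have : Module.Finite A N := Module.Finite.equiv e
  have := cl_of_exact (A := A) (e : M →ₗ[A] N) (0 : N →ₗ[A] PUnit.{u+1})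
    e.injective (fun x => ⟨0, Subsingleton.elim _ _⟩)
    (fun x => ⟨fun _ => ⟨e.symm x, by simp⟩, fun _ => Subsingleton.elim _ _⟩)
  rw [this, cl_of_subsingleton PUnit.{u+1}, add_zero]

lemma cl_prod (M N : Type u) [AddCommGroup M] [Module A M] [AddCommGroup N]
    [Module A N] [Module.Finite A M] [Module.Finite A N] :
    cl A (M × N) = cl A M + cl A N :=
  cl_of_exact (LinearMap.inl A M N) (LinearMap.snd A M N) LinearMap.inl_injective
    LinearMap.snd_surjective (fun x => by
      constructor
      · intro h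
        exact ⟨x.1, by ext <;> simp_all⟩
      · rintro ⟨y, rfl⟩
        simp)

lemma cl_fin_fun (n : ℕ) : cl A (Fin n → A) = n • cl A A := by
  induction n with
  | zero => rw [cl_of_subsingleton, zero_smul]
  | succ n ih =>
    rw [cl_of_linearEquiv (Fin.consLinearEquiv A (fun _ : Fin (n + 1) => A)), cl_prod, ih,
      succ_nsmul, add_comm]

variable [IsDomain A] [IsPrincipalIdealRing A]

lemma cl_mem_zmultiples (M : Type u) [AddCommGroup M] [Module A M] [Module.Finite A M] :
    cl A M ∈ AddSubgroup.zmultiples (cl A A) := by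
  obtain ⟨n, f, hf⟩ := Module.Finite.exists_fin' A M
  obtain ⟨m, ⟨b⟩⟩ := Submodule.nonempty_basis_of_pid (Pi.basisFun A (Fin n)) (LinearMap.ker f)
  have : Module.Finite A (LinearMap.ker f) := Module.Finite.of_basis b
  have h1 := cl_of_exact (A := A) (LinearMap.ker f).subtype f (Submodule.injective_subtype _) hf
    (fun x => by
      constructor
      · intro h
        exact ⟨⟨x, h⟩, rfl⟩
      · rintro ⟨y, rfl⟩
        exact y.2)
  have h2 : cl A (LinearMap.ker f) = m • cl A A := by
    rw [← cl_fin_fun, cl_of_linearEquiv b.equivFun.symm]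
  rw [cl_fin_fun, h2] at h1
  have h3 : cl A M = (n : ℤ) • cl A A - (m : ℤ) • cl A A := by
    rw [natCast_zsmul, natCast_zsmul, h1]
    abel
  rw [h3, ← sub_smul]
  exact AddSubgroup.zsmul_mem_zmultiples _ _

/-- the rank homomorphism on `K₀` -/
noncomputable def rankHom : KZero.K0sub (FinP A) →+ ℤ :=
  QuotientAddGroup.lift _ (FreeAbelianGroup.lift (fun M : Subtype (FinP A) =>
    (Module.finrank A M.1 : ℤ))) (by
    rw [KZero.relSub, AddSubgroup.closure_le]
    rintro x ⟨S, h₁, h₂, h₃, hS, rfl⟩
    simp only [SetLike.mem_coe, AddMonoidHom.mem_ker, map_sub, FreeAbelianGroup.lift_apply_of]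
    have hf : Function.Injective S.f.hom := hS.moduleCat_injective_f
    have hg : Function.Surjective S.g.hom := hS.moduleCat_surjective_g
    have hfg : LinearMap.range S.f.hom = LinearMap.ker S.g.hom := hS.exact.moduleCat_range_eq_ker
    have : Module.Finite A S.X₂ := h₂
    have e1 := Submodule.finrank_quotient_add_finrank (LinearMap.ker S.g.hom)
    rw [LinearEquiv.finrank_eq (S.g.hom.quotKerEquivOfSurjective hg), ← hfg,
      LinearMap.finrank_range_of_inj hf] at e1
    rw [← e1]
    push_cast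
    ring)

lemma rankHom_cl (M : Type u) [AddCommGroup M] [Module A M] [Module.Finite A M] :
    rankHom (cl A M) = Module.finrank A M := by
  rw [cl, clSub_eq _ ‹_›]
  simp [rankHom]

end KZeroPID

end Groth.Agent.Lib.Helper16
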