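import Groth.Prelude.Def_LambdaRing
import Mathlib.RingTheory.PowerSeries.Substitution
import Mathlib.RingTheory.PowerSeries.WellKnown

/-!
Helper lemmas on the λ-rings of `Groth.Prelude.Def_LambdaRing` (helper16).
-/

set_option autoImplicit false
universe u

open PowerSeries Finset

namespace Groth.Agent.Lib.Helper16

variable {K : Type u} [CommRing K] [LambdaRing.LambdaOps K]

open LambdaRing

/-- `λ_t(x + y) = λ_t(x) λ_t(y)`. -/
theorem lamSeries_add (x y : K) : lamSeries (x + y) = lamSeries x * lamSeries y := by
  ext k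
  rw [lamSeries, coeff_mk, LambdaOps.lam_add, coeff_mul,
    Finset.Nat.sum_antidiagonal_eq_sum_range_succ (fun i j => coeff i (lamSeries x) * coeff j (lamSeries y))]
  simp [lamSeries]

/-- The power series `t/(1-t) = t + t² + …`. -/
noncomputable def uSer (K : Type u) [CommRing K] : PowerSeries K := X * mk 1

omit [LambdaRing.LambdaOps K] in
theorem uSer_hasSubst : HasSubst (uSer K) :=
  HasSubst.of_constantCoeff_zero' (by simp [uSer])

omit [LambdaRing.LambdaOps K] in
theorem coeff_uSer_pow (d k : ℕ) :
    coeff k ((uSer K) ^ d) =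
      if d = 0 then (if k = 0 then 1 else 0) else if d ≤ k then ((k - 1).choose (d - 1) : K) else 0 := by
  rcases Nat.eq_zero_or_pos d with rfl | hd
  · simp [coeff_one]
  · obtain ⟨e, rfl⟩ : ∃ e, d = e + 1 := ⟨d - 1, by omega⟩
    rw [uSer, mul_pow, coeff_X_pow_mul', mk_one_pow_eq_mk_choose_add]
    simp only [Nat.succ_ne_zero, if_false, Nat.add_sub_cancel]
    split_ifs with h
    · rw [coeff_mk]
      congr 2
      omega
    · rfl

/-- The γ-series `γ_t(x) = Σ γ^k(x) t^k`. -/
def gamSeries (x : K) : PowerSeries K := mk fun k => gamma k x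

theorem gamSeries_eq_subst (x : K) : gamSeries x = (lamSeries x).subst (uSer K) := by
  ext k
  rw [coeff_subst' uSer_hasSubst, gamSeries, coeff_mk]
  rw [finsum_eq_sum_of_support_subset (s := range (k + 1))]
  · simp only [coeff_uSer_pow, lamSeries, coeff_mk, smul_eq_mul]
    rcases Nat.eq_zero_or_pos k with rfl | hk
    · simp [gamma, LambdaOps.lam_zero]
    · have hk0 : k ≠ 0 := by omega
      simp only [gamma, hk0, if_false]
      apply Finset.sum_congr rfl
      intro j hj
      have hj' : j ≤ k := by simpa [Nat.lt_succ_iff] using hj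
      by_cases hj0 : j = 0
      · simp [hj0]
      · simp [hj0, hj', mul_comm]
  · intro d hd
    simp only [Function.mem_support, ne_eq] at hd
    simp only [coe_range, Set.mem_Iio, Nat.lt_succ_iff]
    by_contra hlt
    apply hd
    have : k < d := by omega
    rw [coeff_uSer_pow]
    have hd0 : d ≠ 0 := by omega
    have hdk : ¬ d ≤ k := by omega
    simp [hd0, hdk]

theorem gamSeries_add (x y : K) : gamSeries (x + y) = gamSeries x * gamSeries y := by
  rw [gamSeries_eq_subst, gamSeries_eq_subst, gamSeries_eq_subst, lamSeries_add,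
    subst_mul uSer_hasSubst]

theorem gamma_add (k : ℕ) (x y : K) :
    gamma k (x + y) = ∑ i ∈ range (k + 1), gamma i x * gamma (k - i) y := by
  have h := congrArg (coeff k) (gamSeries_add x y)
  rw [coeff_mul, Finset.Nat.sum_antidiagonal_eq_sum_range_succ
    (fun i j => coeff i (gamSeries x) * coeff j (gamSeries y))] at h
  simpa [gamSeries] using h

end Groth.Agent.Lib.Helper16
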