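import Mathlib

/-!
# Melkersson's lemma: a power-torsion module with Artinian socle-like part is Artinian
-/

namespace Groth.Agent.Lib.Helper16

/-- Principal case of Melkersson's lemma. -/
theorem isArtinian_of_torsionBy {R : Type*} [CommRing R] (x : R) (M : Type*) [AddCommGroup M]
    [Module R M] (hM : ∀ m : M, ∃ n : ℕ, x ^ n • m = 0)
    [hA : IsArtinian R (Submodule.torsionBy R M x)] : IsArtinian R M := by
  rw [← monotone_stabilizes_iff_artinian]
  intro f
  let L := Submodule.torsionBy R M x
  let N : ℕ → Submodule R M := fun i => OrderDual.ofDual (f i)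
  have hN : Antitone N := fun i i' h => f.monotone h
  let G : ℕ → ℕ → Submodule R L := fun j i =>
    Submodule.comap L.subtype ((N i).map (LinearMap.lsmul R M (x ^ j)))
  have hGi : ∀ j, Antitone (G j) := fun j i i' h =>
    Submodule.comap_mono (Submodule.map_mono (hN h))
  have hGj : ∀ i, Antitone (fun j => G j i) := by
    intro i j j' h l hl
    obtain ⟨n, hn, hnl⟩ := hl
    refine ⟨x ^ (j' - j) • n, (N i).smul_mem _ hn, ?_⟩
    rw [← hnl]
    simp only [LinearMap.lsmul_apply, smul_smul, ← pow_add, Nat.add_sub_cancel' h]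
  obtain ⟨⟨j₀, i₀⟩, hmin⟩ : ∃ p : ℕ × ℕ, ∀ q : ℕ × ℕ, ¬ G q.1 q.2 < G p.1 p.2 := by
    have := (IsWellFounded.wf : WellFounded ((· < ·) : Submodule R L → Submodule R L → Prop)).has_min
      (Set.range fun p : ℕ × ℕ => G p.1 p.2) ⟨_, ⟨(0, 0), rfl⟩⟩
    obtain ⟨_, ⟨p, rfl⟩, hp⟩ := this
    exact ⟨p, fun q => hp _ ⟨q, rfl⟩⟩
  have hstab0 : ∀ j i, j₀ ≤ j → i₀ ≤ i → G j i = G j₀ i₀ := by
    intro j i hj hi
    have hle : G j i ≤ G j₀ i₀ := (hGi j hi).trans (hGj i₀ hj)
    exact eq_of_le_of_not_lt hle (hmin (j, i))
  have hstabj : ∀ j, ∃ i_j, ∀ i, i_j ≤ i → G j i_j = G j i := fun j =>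
    IsArtinian.monotone_stabilizes
      (⟨fun i => OrderDual.toDual (G j i), fun i i' h => hGi j h⟩ : ℕ →o (Submodule R L)ᵒᵈ)
  choose I hI using hstabj
  let i₁ := max i₀ ((Finset.range j₀).sup I)
  have huni : ∀ j i, i₁ ≤ i → G j i = G j i₁ := by
    intro j i hi
    by_cases hj : j₀ ≤ j
    · rw [hstab0 j i hj ((le_max_left _ _).trans hi), hstab0 j i₁ hj (le_max_left _ _)]
    · push Not at hj
      have hIj : I j ≤ i₁ :=
        (Finset.le_sup (f := I) (Finset.mem_range.mpr hj)).trans (le_max_right _ _)
      rw [← hI j i (hIj.trans hi), ← hI j i₁ hIj]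
  refine ⟨i₁, fun i hi => ?_⟩
  have key : ∀ k : ℕ, ∀ n ∈ N i₁, x ^ k • n = 0 → n ∈ N i := by
    intro k
    induction k with
    | zero =>
      intro n _ h
      rw [pow_zero, one_smul] at h
      subst h
      exact (N i).zero_mem
    | succ k ih =>
      intro n hn h
      have hl : x ^ k • n ∈ L := by
        rw [Submodule.mem_torsionBy_iff, smul_smul, ← pow_succ']
        exact h
      have hmem : (⟨x ^ k • n, hl⟩ : L) ∈ G k i₁ := ⟨n, hn, rfl⟩
      rw [← huni k i hi] at hmem
      obtain ⟨n', hn', hn'l⟩ := hmem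
      have hn'l' : x ^ k • n' = x ^ k • n := hn'l
      have hsub : n - n' ∈ N i := ih (n - n') ((N i₁).sub_mem hn (hN hi hn'))
        (by rw [smul_sub, hn'l', sub_self])
      have := (N i).add_mem hsub hn'
      simpa using this
  have hEq : N i₁ = N i := le_antisymm
    (fun n hn => by obtain ⟨k, hk⟩ := hM n; exact key k n hn hk) (hN hi)
  exact congrArg OrderDual.toDual hEq

/-- Melkersson's lemma for the ideal generated by a finite set. -/
theorem isArtinian_of_torsionBySet_span {R : Type*} [CommRing R] (s : Finset R) :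
    ∀ (M : Type*) [AddCommGroup M] [Module R M],
      (∀ m : M, ∃ n : ℕ, ∀ a ∈ (Ideal.span (s : Set R)) ^ n, a • m = 0) →
      IsArtinian R (Submodule.torsionBySet R M ((Ideal.span (s : Set R) : Ideal R) : Set R)) →
      IsArtinian R M := by
  classical
  induction s using Finset.induction_on with
  | empty =>
    intro M _ _ _ hA
    let g : M →ₗ[R] Submodule.torsionBySet R M ((Ideal.span ((∅ : Finset R) : Set R) : Ideal R) : Set R) :=
      { toFun := fun m => ⟨m, by
          rw [Submodule.mem_torsionBySet_iff]
          rintro ⟨a, ha⟩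
          have ha' : a ∈ Ideal.span ((∅ : Finset R) : Set R) := ha
          rw [Finset.coe_empty, Ideal.span_empty, Ideal.mem_bot] at ha'
          simp [ha']⟩
        map_add' := fun _ _ => rfl
        map_smul' := fun _ _ => rfl }
    exact isArtinian_of_injective g (fun a b h => congrArg Subtype.val h)
  | insert x s hxs ih =>
    intro M _ _ hM hA
    have hle : Ideal.span (s : Set R) ≤ Ideal.span ((insert x s : Finset R) : Set R) :=
      Ideal.span_mono (by simp)
    have hx : x ∈ Ideal.span ((insert x s : Finset R) : Set R) :=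
      Ideal.subset_span (by simp)
    -- `M' = M[x]` is Artinian by the induction hypothesis
    have hM' : IsArtinian R (Submodule.torsionBy R M x) := by
      apply ih (Submodule.torsionBy R M x)
      · intro m
        obtain ⟨n, hn⟩ := hM m.1
        refine ⟨n, fun a ha => ?_⟩
        apply Subtype.ext
        exact hn a (Ideal.pow_right_mono hle n ha)
      · let g : Submodule.torsionBySet R (Submodule.torsionBy R M x)
            ((Ideal.span (s : Set R) : Ideal R) : Set R) →ₗ[R]
            Submodule.torsionBySet R M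
              ((Ideal.span ((insert x s : Finset R) : Set R) : Ideal R) : Set R) :=
          { toFun := fun m => ⟨m.1.1, by
              rw [Submodule.mem_torsionBySet_iff]
              rintro ⟨a, ha⟩
              have ha' : a ∈ Ideal.span ((insert x s : Finset R) : Set R) := ha
              rw [Finset.coe_insert, Ideal.mem_span_insert] at ha'
              obtain ⟨r, b, hb, rfl⟩ := ha'
              have h1 : x • m.1.1 = 0 := (Submodule.mem_torsionBy_iff _ _).mp m.1.2
              have h2 : b • m.1 = 0 := (Submodule.mem_torsionBySet_iff _ _).mp m.2 ⟨b, hb⟩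
              have h2' : b • m.1.1 = 0 := congrArg Subtype.val h2
              change (r * x + b) • m.1.1 = 0
              rw [add_smul, mul_smul, h1, smul_zero, h2', add_zero]⟩
            map_add' := fun _ _ => rfl
            map_smul' := fun _ _ => rfl }
        exact isArtinian_of_injective g
          (fun a b h => Subtype.ext (Subtype.ext (congrArg (fun z => z.1) h)))
    refine isArtinian_of_torsionBy x M (fun m => ?_)
    obtain ⟨n, hn⟩ := hM m
    exact ⟨n, hn _ (Ideal.pow_mem_pow hx n)⟩

end Groth.Agent.Lib.Helper16
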