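import Groth.Agent.Lib.Helper96.SigmaLinDecomp

/-!
# `q`-linear maps over separably closed fields

The solvability hypotheses of helper96's `SigmaLin` library for `σ = x ↦ x ^ (p ^ r)` on a
separably closed field, and consequences.
-/

set_option autoImplicit false

namespace Groth.Agent.Lib.Helper16

open Polynomial Groth.Agent.Lib.Helper96.SigmaLin

universe u v

section Poly

variable {k : Type u} [Field k]

/-- A split polynomial with two nonzero coefficients has a nonzero root
(helper96's argument, for a split polynomial). -/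
theorem exists_root_ne_zero_of_two_coeff_of_splits (P : k[X]) (hsplit : P.Splits) {i j : ℕ}
    (hij : i ≠ j) (hi : P.coeff i ≠ 0) (hj : P.coeff j ≠ 0) : ∃ z : k, z ≠ 0 ∧ P.eval z = 0 := by
  by_contra hcon
  push Not at hcon
  have hroots : ∀ r ∈ P.roots, r = 0 := by
    intro r hr
    by_contra hr0
    exact hcon r hr0 ((mem_roots'.mp hr).2)
  have h1 : P.roots = Multiset.replicate (Multiset.card P.roots) 0 :=
    Multiset.eq_replicate.mpr ⟨rfl, hroots⟩
  have h2 : P = C P.leadingCoeff * X ^ (Multiset.card P.roots) := by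
    conv_lhs => rw [hsplit.eq_prod_roots, h1]
    simp
  have hi' := hi
  have hj' := hj
  rw [h2, coeff_C_mul, coeff_X_pow] at hi' hj'
  have e1 : i = Multiset.card P.roots := by
    by_contra h
    rw [if_neg h, mul_zero] at hi'
    exact hi' rfl
  have e2 : j = Multiset.card P.roots := by
    by_contra h
    rw [if_neg h, mul_zero] at hj'
    exact hj' rfl
  exact hij (e1.trans e2.symm)

end Poly

section Frob

set_option linter.unusedSectionVars false

variable (k : Type u) [Field k] [IsSepClosed k] (p : ℕ) [Fact p.Prime] [CharP k p] (r : ℕ)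

/-- The ring endomorphism `x ↦ x ^ (p ^ r)`. -/
noncomputable def qFrob : k →+* k :=
  haveI : ExpChar k p := ExpChar.prime Fact.out
  iterateFrobenius k p r

theorem qFrob_apply (x : k) : qFrob k p r x = x ^ (p ^ r) := rfl

theorem iterate_qFrob (i : ℕ) (x : k) : (⇑(qFrob k p r))^[i] x = x ^ ((p ^ r) ^ i) := by
  induction i generalizing x with
  | zero => simp
  | succ i ih => rw [Function.iterate_succ_apply, ih, qFrob_apply, ← pow_mul, pow_succ']

variable {r}

theorem cast_q_eq_zero (hr : 0 < r) : ((p ^ r : ℕ) : k) = 0 := by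
  rw [Nat.cast_pow, CharP.cast_eq_zero k p, zero_pow hr.ne']

theorem two_le_q (hr : 0 < r) : 2 ≤ p ^ r :=
  (Fact.out : p.Prime).two_le.trans (Nat.le_self_pow hr.ne' p)

theorem hyp3_qFrob (hr : 0 < r) : Hyp3 (qFrob k p r) := by
  intro c
  obtain ⟨y, hy⟩ := IsSepClosed.exists_root_C_mul_X_pow_add_C_mul_X_add_C (k := k) (n := p ^ r)
    1 (-1) c (cast_q_eq_zero k p hr) (two_le_q p hr) (by simp)
  refine ⟨y, ?_⟩
  rw [qFrob_apply]
  linear_combination hy

theorem hyp2_qFrob (hr : 0 < r) : Hyp2 (qFrob k p r) := by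
  classical
  intro n b hb
  set q := p ^ r with hq
  have hq2 : 2 ≤ q := two_le_q p hr
  let c : Fin (n + 1) → k := fun i => (⇑(qFrob k p r))^[i.val] (b (Fin.rev i))
  let P : k[X] := ∑ i : Fin (n + 1), C (c i) * X ^ (q ^ (i.val + 1)) - X
  have hqi : ∀ i : ℕ, ((q ^ (i + 1) : ℕ) : k) = 0 := by
    intro i
    rw [Nat.cast_pow, cast_q_eq_zero k p hr, zero_pow (Nat.succ_ne_zero i)]
  have hder : derivative P = -1 := by
    simp only [P, derivative_sub, derivative_sum, derivative_mul, derivative_C, zero_mul,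
      zero_add, derivative_X_pow, derivative_X]
    rw [Finset.sum_eq_zero, zero_sub]
    intro i _
    rw [hqi i.val, map_zero, zero_mul, mul_zero]
  have hsep : P.Separable := by
    rw [separable_def, hder]
    exact isCoprime_one_right.neg_right
  have hsplit : P.Splits := IsSepClosed.splits_of_separable P hsep
  have hpow_ne_one : ∀ i : ℕ, q ^ (i + 1) ≠ 1 := fun i =>
    (Nat.one_lt_pow (Nat.succ_ne_zero i) hq2).ne'
  have hcoeff : ∀ m : ℕ, P.coeff m =
      (∑ i : Fin (n + 1), if m = q ^ (i.val + 1) then c i else 0) - if m = 1 then 1 else 0 := by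
    intro m
    simp only [P, coeff_sub, finsetSum_coeff, coeff_C_mul, coeff_X_pow, coeff_X, mul_ite, mul_one,
      mul_zero]
    congr 1
    by_cases h : m = 1
    · simp [h]
    · simp [h, Ne.symm h]
  have h1 : P.coeff 1 ≠ 0 := by
    rw [hcoeff 1, Finset.sum_eq_zero, zero_sub]
    · simp
    · intro i _
      rw [if_neg (hpow_ne_one i.val).symm]
  obtain ⟨j, hj⟩ : ∃ j : Fin (n + 1), c j ≠ 0 := by
    by_contra hall
    push Not at hall
    apply hb
    funext i
    have := hall (Fin.rev i)
    simp only [c, Fin.rev_rev] at this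
    exact (injective_iff_map_eq_zero' ((qFrob k p r) ^ (Fin.rev i).val)).mp
      (RingHom.injective _) _ |>.mp (by rwa [RingHom.coe_pow])
  have hinj : ∀ i i' : ℕ, q ^ (i + 1) = q ^ (i' + 1) → i = i' := fun i i' h =>
    Nat.succ_injective (Nat.pow_right_injective hq2 h)
  have h2 : P.coeff (q ^ (j.val + 1)) ≠ 0 := by
    rw [hcoeff, if_neg (hpow_ne_one j.val), sub_zero, Finset.sum_eq_single j]
    · simpa using hj
    · intro i _ hij
      rw [if_neg]
      intro h
      exact hij (Fin.ext (hinj _ _ h).symm)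
    · intro h; exact absurd (Finset.mem_univ j) h
  obtain ⟨x, hx0, hx⟩ := exists_root_ne_zero_of_two_coeff_of_splits P hsplit
    (hpow_ne_one j.val).symm h1 h2
  refine ⟨x, hx0, ?_⟩
  simp only [P, eval_sub, eval_finsetSum, eval_mul, eval_C, eval_pow, eval_X] at hx
  rw [eq_comm, ← sub_eq_zero, ← hx]
  congr 1
  refine Finset.sum_congr rfl fun i _ => ?_
  rw [iterate_qFrob, mul_comm]

end Frob

end Groth.Agent.Lib.Helper16
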